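import Cfsg.Agent.SpecSympEight.Small

/-! A regular unipotent isometry of a six-dimensional quadratic space in characteristic two. -/

set_option autoImplicit false
set_option linter.style.haveILetI false
set_option linter.unusedSectionVars false

open QuadraticMap Submodule Cfsg.Lib.Classical

namespace Cfsg.Lib.SpecSympEight

open FormNormal

universe u

variable {F : Type u} [Field F]

local notation "V₆" => (Fin 2 ⊕ Fin 2) ⊕ Fin 2 → F

/-- The nilpotent part. -/
def jNil (z : F) : Module.End F V₆ where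
  toFun v := Sum.elim
    (Sum.elim ![v (.inl (.inl 1)), v (.inr 0) + z * (v (.inl (.inr 1)) + v (.inl (.inr 0)))] ![0, v (.inl (.inr 0))])
    ![v (.inr 1) + (v (.inl (.inr 1)) + v (.inl (.inr 0))), v (.inl (.inr 1)) + v (.inl (.inr 0))]
  map_add' u v := by
    funext i
    rcases i with (i | i) | i <;> fin_cases i <;> simp <;> ring
  map_smul' c v := by
    funext i
    rcases i with (i | i) | i <;> fin_cases i <;> simp <;> ring

theorem jNil_apply (z : F) (v : V₆) : jNil z v = Sum.elim
    (Sum.elim ![v (.inl (.inl 1)), v (.inr 0) + z * (v (.inl (.inr 1)) + v (.inl (.inr 0)))] ![0, v (.inl (.inr 0))])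
    ![v (.inr 1) + (v (.inl (.inr 1)) + v (.inl (.inr 0))), v (.inl (.inr 1)) + v (.inl (.inr 0))] := rfl

theorem jNil_four (z : F) (v : V₆) :
    ((jNil z ^ 4 : Module.End F V₆) v) (.inl (.inr 0)) = 0 ∧
    ((jNil z ^ 4 : Module.End F V₆) v) (.inl (.inr 1)) = 0 ∧
    ((jNil z ^ 4 : Module.End F V₆) v) (.inr 1) = 0 ∧
    ((jNil z ^ 4 : Module.End F V₆) v) (.inr 0) = 0 ∧
    ((jNil z ^ 4 : Module.End F V₆) v) (.inl (.inl 1)) = v (.inl (.inr 0)) := by
  simp only [pow_succ', pow_zero, Module.End.mul_apply, Module.End.one_apply, jNil_apply]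
  refine ⟨?_, ?_, ?_, ?_, ?_⟩ <;> simp

theorem jNil_six (z : F) : jNil z ^ 6 = 0 := by
  refine LinearMap.ext fun v => ?_
  obtain ⟨h0, h1, h2, h3, -⟩ := jNil_four z v
  rw [show 6 = 2 + 4 from rfl, pow_add, Module.End.mul_apply, pow_two, Module.End.mul_apply, jNil_apply, jNil_apply]
  funext i
  rcases i with (i | i) | i <;> fin_cases i <;> simp [h0, h1, h2, h3]

variable [Fintype F] [CharP F 2]

theorem one_add_sq (A : Module.End F V₆) : (1 + A) ^ 2 = 1 + A ^ 2 := by
  refine LinearMap.ext fun v => funext fun i => ?_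
  simp only [pow_two, add_mul, mul_add, one_mul, mul_one, LinearMap.add_apply, Pi.add_apply, Module.End.one_apply]
  linear_combination A v i * (CharTwo.two_eq_zero : (2 : F) = 0)

theorem jordan_order (z : F) : orderOf (1 + jNil z : Module.End F V₆) = 8 := by
  haveI : Fact (Nat.Prime 2) := ⟨Nat.prime_two⟩
  have h4 : (1 + jNil z : Module.End F V₆) ^ 4 = 1 + jNil z ^ 4 := by
    rw [show 4 = 2 * 2 from rfl, pow_mul, one_add_sq, one_add_sq, ← pow_mul]
  refine orderOf_eq_prime_pow (p := 2) (n := 2) (fun h => ?_) ?_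
  · norm_num at h
    rw [h4, add_eq_left] at h
    have := (jNil_four z (Pi.single (.inl (.inr 0)) 1)).2.2.2.2
    rw [h] at this
    simp at this
  · norm_num
    rw [show 8 = 4 * 2 from rfl, pow_mul, h4, one_add_sq, ← pow_mul, show 4 * 2 = 6 + 2 from rfl, pow_add, jNil_six,
      zero_mul, add_zero]

theorem jordan_iso (z : F) (v : V₆) :
    Refl.minusForm 2 F 1 z ((1 + jNil z : Module.End F V₆) v) = Refl.minusForm 2 F 1 z v := by
  simp [Refl.minusForm_coe, Cfsg.quadFormMinus, LinearMap.add_apply, jNil_apply, Fin.sum_univ_two]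
  set s := v (.inl (.inr 1)) + v (.inl (.inr 0))
  linear_combination (v (.inl (.inl 1)) * v (.inl (.inr 0)) + 2 * v (.inr 0) * s + z * s ^ 2 + v (.inr 1) ^ 2 + s ^ 2 +
    v (.inr 0) * v (.inr 1) + 2 * v (.inr 1) * s + z * v (.inr 1) * s) * (CharTwo.two_eq_zero : (2 : F) = 0)

/-- Blocks of dimension six with an isometry of order eight. -/
theorem exists_eight_block (k : ℕ) (hk : k = 0 ∨ k = 2) :
    ∃ fx, Nonempty (Blk (F := F) V₆ 6 k 8 fx) := by
  have hnd : ∀ z : F, (polarBilin (Refl.minusForm 2 F 1 z)).Nondegenerate := fun z => by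
    have h20 : (2 : F) = 0 := CharTwo.two_eq_zero
    have h1 : ∀ x : V₆, (∀ y, polar (⇑(Refl.minusForm 2 F 1 z)) x y = 0) → x = 0 := by
      intro x hx
      funext i
      rcases i with (j | j) | j <;> fin_cases j
      · have := hx (Pi.single (.inl (.inr 0)) 1)
        simp [polar, Refl.minusForm_coe, Cfsg.quadFormMinus, Pi.single_apply, Fin.sum_univ_two] at this ⊢
        linear_combination this
      · have := hx (Pi.single (.inl (.inr 1)) 1)
        simp [polar, Refl.minusForm_coe, Cfsg.quadFormMinus, Pi.single_apply, Fin.sum_univ_two] at this ⊢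
        linear_combination this
      · have := hx (Pi.single (.inl (.inl 0)) 1)
        simp [polar, Refl.minusForm_coe, Cfsg.quadFormMinus, Pi.single_apply, Fin.sum_univ_two] at this ⊢
        linear_combination this
      · have := hx (Pi.single (.inl (.inl 1)) 1)
        simp [polar, Refl.minusForm_coe, Cfsg.quadFormMinus, Pi.single_apply, Fin.sum_univ_two] at this ⊢
        linear_combination this
      · have := hx (Pi.single (.inr 1) 1)
        simp [polar, Refl.minusForm_coe, Cfsg.quadFormMinus, Pi.single_apply, Fin.sum_univ_two] at this ⊢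
        linear_combination this - z * x (.inr 1) * h20
      · have := hx (Pi.single (.inr 0) 1)
        simp [polar, Refl.minusForm_coe, Cfsg.quadFormMinus, Pi.single_apply, Fin.sum_univ_two] at this ⊢
        linear_combination this - x (.inr 0) * h20
    exact ⟨h1, fun x hx => h1 x fun y => by rw [polar_comm]; exact hx y⟩
  have hdim : Module.finrank F V₆ = 6 := by simp
  have key : ∀ z : F, ∀ D : Decomp (Refl.minusForm 2 F 1 z) (⊤ : Submodule F V₆), Module.finrank F D.K = k →
      ∃ fx, Nonempty (Blk (F := F) V₆ 6 k 8 fx) := fun z D hD =>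
    ⟨_, ⟨⟨_, hnd z, D, 1 + jNil z, jordan_iso z, hdim, hD, jordan_order z, rfl⟩⟩⟩
  rcases hk with rfl | rfl
  · obtain ⟨D⟩ := exists_decomp (Refl.minusForm 2 F 1 0) _ ⊤ rfl (nd_top _ (hnd 0))
    refine key 0 D ?_
    let L : (Fin 3 → F) →ₗ[F] V₆ :=
      { toFun := fun c => Sum.elim (Sum.elim ![c 0, c 1] 0) ![0, c 2]
        map_add' := fun u v => by funext i; rcases i with (i | i) | i <;> fin_cases i <;> simp
        map_smul' := fun c v => by funext i; rcases i with (i | i) | i <;> fin_cases i <;> simp }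
    have hL : Function.Injective L := fun c c' h => funext fun i => by
      fin_cases i
      exacts [congrFun h (.inl (.inl 0)), congrFun h (.inl (.inl 1)), congrFun h (.inr 1)]
    have hs : ∀ w ∈ LinearMap.range L, Refl.minusForm 2 F 1 0 w = 0 := by
      rintro _ ⟨c, rfl⟩
      simp [L, Refl.minusForm_coe, Cfsg.quadFormMinus]
    have hr : Module.finrank F (LinearMap.range L) = 3 := by rw [LinearMap.finrank_range_of_inj hL]; simp
    have hm := index_eq (hnd 0) D _ hs (half_max (hnd 0) _ hs (by rw [hdim, hr]; norm_num))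
    have h1 := D.dim
    rw [finrank_top, hdim] at h1
    omega
  · obtain ⟨ζ, hζ⟩ := Known.AutPSLn.Invol.exists_root_free F
    obtain ⟨D⟩ := exists_decomp (Refl.minusForm 2 F 1 ζ) _ ⊤ rfl (nd_top _ (hnd ζ))
    refine key ζ D ?_
    have hm : D.m = 2 := MinusExtend.minus_index _ (OrthCount.aniso_of_root_free hζ) D
    have h1 := D.dim
    rw [finrank_top, hdim] at h1
    omega

end Cfsg.Lib.SpecSympEight
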