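import Cfsg.Agent.SpecSympEight.Main
import Cfsg.Agent.SpecSympEight.Jordan

/-! Element orders of the orthogonal group of minus type in dimension eight, characteristic two. -/

set_option autoImplicit false
set_option linter.style.haveILetI false
set_option linter.unusedSectionVars false

open QuadraticMap Submodule Cfsg Cfsg.Lib.Classical Cfsg.Lib.Classical.Refl

namespace Cfsg.Lib.SpecSympEight

open FormNormal

universe u

variable {F : Type u} [Field F] [Fintype F] [CharP F 2]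

local notation "V₈" => (Fin 3 ⊕ Fin 3) ⊕ Fin 2 → F

variable {a b : F} (hab : ∀ z₁ z₂ : F, z₁ ^ 2 + a * z₁ * z₂ + b * z₂ ^ 2 = 0 → z₁ = 0 ∧ z₂ = 0)

include hab

/-- The upper bound for the isometry group. -/
theorem orth_upper (g : Cfsg.isometryGroup F (⇑(Refl.minusForm 3 F a b))) :
    ∃ d, Spec (Fintype.card F) d ∧ orderOf g ∣ d := by
  classical
  let Q := Refl.minusForm 3 F a b
  have hQ : (polarBilin Q).Nondegenerate := Refl.minusForm_nondegenerate' 3 hab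
  set A := mat Q g with hA
  set G : Matrix ((Fin 3 ⊕ Fin 3) ⊕ Fin 2) ((Fin 3 ⊕ Fin 3) ⊕ Fin 2) F :=
    LinearMap.BilinForm.toMatrix' (polarBilin Q)
  have hGd : G.det ≠ 0 := (LinearMap.BilinForm.nondegenerate_toMatrix'_iff.2 (hQ)).det_ne_zero
  have hAG : A.transpose * G * A = G := by
    have e : LinearMap.BilinForm.comp (polarBilin Q : LinearMap.BilinForm F V₈) (Matrix.toLin' A)
        (Matrix.toLin' A) = polarBilin Q := LinearMap.ext₂ fun x y => by
      show polar (⇑Q) (Matrix.toLin' A x) (Matrix.toLin' A y) = _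
      rw [Matrix.toLin'_apply, Matrix.toLin'_apply]
      exact polar_act Q g x y
    have := congrArg LinearMap.BilinForm.toMatrix' e
    rwa [LinearMap.BilinForm.toMatrix'_comp, LinearMap.toMatrix'_toLin'] at this
  obtain ⟨d, hd, hAd, hsum⟩ := pow_eq_one (by simp) A G (isUnit_iff_ne_zero.2 hGd) hAG
  refine ⟨d, hd, orderOf_dvd_of_pow_eq_one (PrimeGraphOrth.toEnd_injective Q ?_)⟩
  rw [map_pow, map_one, show PrimeGraphOrth.toEnd Q g = Matrix.toLin' A from rfl, ← Matrix.toLin'_pow, hAd,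
    Matrix.toLin'_one]
  rfl

variable {V : Type u} [AddCommGroup V] [Module F V] [FiniteDimensional F V]

/-- Every block of dimension eight and minus type embeds. -/
theorem orth_place {n fx : ℕ} (B : Blk (F := F) V 8 2 n fx) :
    ∃ g : Cfsg.isometryGroup F (⇑(Refl.minusForm 3 F a b)), orderOf g = n := by
  classical
  set Q := Refl.minusForm 3 F a b with hQ
  obtain ⟨D0⟩ := exists_decomp Q _ ⊤ rfl (nd_top _ (Refl.minusForm_nondegenerate' 3 hab))
  have hD0 : D0.m = 3 := MinusExtend.minus_index _ hab D0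
  have h1 := B.D.dim
  rw [finrank_top, B.hk, B.hdim] at h1
  have hd8 : Module.finrank F V₈ = 8 := by simp
  obtain ⟨e, he⟩ := equiv_of_index B.D D0 (by omega) (by rw [B.hdim, hd8]) (by rw [B.hdim]; exact ⟨4, rfl⟩)
  set T₀ : Module.End F V₈ := e.conj B.T with hT₀
  have hTapply : ∀ v, T₀ (e v) = e (B.T v) := fun v => by simp [T₀, LinearEquiv.conj_apply]
  have hiso : ∀ v, Q (T₀ v) = Q v := fun v => by
    obtain ⟨v, rfl⟩ := e.surjective v
    rw [hTapply, ← he, B.iso, he]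
  have ho : orderOf T₀ = n := by
    rw [← B.ord]
    exact orderOf_injective e.conjRingEquiv.toMonoidHom e.conjRingEquiv.injective B.T
  have hfin : Finite (Module.End F V₈) := Finite.of_injective (fun T => (T : V₈ → V₈)) DFunLike.coe_injective
  have hu : IsUnit T₀ := by
    have hinj : Function.Injective B.T := by
      rw [← LinearMap.ker_eq_bot, LinearMap.ker_eq_bot']
      intro v hv
      refine B.nd.1 v fun y => ?_
      show polar (⇑B.Q) v y = 0
      have h1 : B.Q (v + y) = B.Q y := by rw [← B.iso, map_add, hv, zero_add, B.iso]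
      have h2 : B.Q v = 0 := by rw [← B.iso, hv, QuadraticMap.map_zero]
      simp [polar, h1, h2]
    rw [Module.End.isUnit_iff]
    exact ⟨fun x y h => by
      obtain ⟨x, rfl⟩ := e.surjective x
      obtain ⟨y, rfl⟩ := e.surjective y
      rw [hTapply, hTapply] at h
      rw [hinj (e.injective h)], fun y => by
      obtain ⟨y, rfl⟩ := e.surjective y
      obtain ⟨x, rfl⟩ := (LinearMap.injective_iff_surjective.1 hinj) y
      exact ⟨e x, hTapply x⟩⟩
  obtain ⟨g, hg⟩ := PrimeGraphOrth.exists_of_end Q T₀ hiso hu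
  exact ⟨g, by rw [← orderOf_injective (PrimeGraphOrth.toEnd Q) (PrimeGraphOrth.toEnd_injective Q) g, hg, ho]⟩

/-- All maximal orders occur in the isometry group. -/
theorem orth_lower {d : ℕ} (hd : Spec (Fintype.card F) d) :
    ∃ g : Cfsg.isometryGroup F (⇑(Refl.minusForm 3 F a b)), orderOf g = d := by
  obtain ⟨hq2, hq⟩ := q_even (F := F)
  set q := Fintype.card F with hqdef
  have tor : ∀ (a : ℕ), 1 ≤ a → ∀ (minus : Bool) (N : ℕ), (N = if minus then q ^ a + 1 else q ^ a - 1) →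
      ∃ fx, Even fx ∧ Nonempty (Blk (F := F) (Fin (2 * a) → F) (2 * a) (if minus then 2 else 0) N fx) :=
    fun a ha minus N hN => exists_torus a ha minus hN
  obtain ⟨_, fp4, ⟨P4⟩⟩ := tor 4 (by norm_num) true (q ^ 4 + 1) rfl
  obtain ⟨_, fp3, ⟨P3⟩⟩ := tor 3 (by norm_num) true (q ^ 3 + 1) rfl
  obtain ⟨_, fm3, ⟨M3⟩⟩ := tor 3 (by norm_num) false (q ^ 3 - 1) rfl
  obtain ⟨_, fp2, ⟨P2⟩⟩ := tor 2 (by norm_num) true (q ^ 2 + 1) rfl
  obtain ⟨_, fm2, ⟨M2⟩⟩ := tor 2 (by norm_num) false (q ^ 2 - 1) rfl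
  obtain ⟨_, fp1, ⟨P1⟩⟩ := tor 1 le_rfl true (q + 1) (by simp)
  obtain ⟨_, fm1, ⟨M1⟩⟩ := tor 1 le_rfl false (q - 1) (by simp)
  simp only [if_true, Bool.false_eq_true, if_false] at P4 P3 M3 P2 M2 P1 M1
  obtain ⟨c31, c32⟩ := coprime_cube hq2 hq
  obtain ⟨c21, c22, c11⟩ := coprime_square hq2 hq
  have odd_of : ∀ {a n : ℕ}, 1 ≤ a → (n = q ^ a + 1 ∨ n = q ^ a - 1) → Odd n := fun ha hn =>
    Nat.coprime_two_right.1 (by simpa using coprime_two_pow hq2 hq ha hn 1)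
  have two : ∀ {n : ℕ}, Odd n → ∀ k, Nat.lcm n (2 ^ k) = n * 2 ^ k :=
    fun hn k => ((Nat.coprime_two_right.2 hn).pow_right k).lcm_eq_mul
  have o31 := odd_of (a := 3) (n := q ^ 3 + 1) (by norm_num) (Or.inl rfl)
  have o32 := odd_of (a := 3) (n := q ^ 3 - 1) (by norm_num) (Or.inr rfl)
  have o21 := odd_of (a := 2) (n := q ^ 2 + 1) (by norm_num) (Or.inl rfl)
  have o22 := odd_of (a := 2) (n := q ^ 2 - 1) (by norm_num) (Or.inr rfl)
  have o11 := odd_of (a := 1) (n := q + 1) le_rfl (Or.inl (by rw [pow_one]))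
  have o12 := odd_of (a := 1) (n := q - 1) le_rfl (Or.inr (by rw [pow_one]))
  obtain ⟨⟨U4, -⟩, -⟩ := exists_u4 (F := F)
  obtain ⟨_, _, _, _, ⟨R0⟩⟩ := exists_refl (F := F) 0 (Or.inl rfl)
  obtain ⟨_, _, _, _, ⟨R2⟩⟩ := exists_refl (F := F) 2 (Or.inr rfl)
  obtain ⟨_, ⟨J0⟩⟩ := exists_eight_block (F := F) 0 (Or.inl rfl)
  obtain ⟨_, ⟨J2⟩⟩ := exists_eight_block (F := F) 2 (Or.inr rfl)
  rcases hd with rfl | rfl | rfl | rfl | rfl | rfl | rfl | rfl | rfl | rfl | rfl | rfl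
  · exact orth_place hab P4
  · obtain ⟨C, -⟩ := P2.sum M2 (Or.inr rfl) (Or.inl rfl)
    obtain ⟨C', -⟩ := C.cast' (d' := 8) (k' := 2) (n' := q ^ 4 - 1) rfl rfl (by
      rw [(coprime_adjacent hq2 (a := 2) (by norm_num) rfl rfl hq).symm.lcm_eq_mul]
      have := Nat.sq_sub_sq (q ^ 2) 1
      simp only [one_pow, ← pow_mul] at this
      exact this.symm)
    exact orth_place hab C'
  · obtain ⟨C, -⟩ := P3.sum M1 (Or.inr rfl) (Or.inl rfl)
    obtain ⟨C', -⟩ := C.cast' (d' := 8) (k' := 2) rfl rfl c31.lcm_eq_mul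
    exact orth_place hab C'
  · obtain ⟨C, -⟩ := M3.sum P1 (Or.inl rfl) (Or.inr rfl)
    obtain ⟨C', -⟩ := C.cast' (d' := 8) (k' := 2) rfl rfl c32.lcm_eq_mul
    exact orth_place hab C'
  · obtain ⟨C, -⟩ := P3.sum R0 (Or.inr rfl) (Or.inl rfl)
    obtain ⟨C', -⟩ := C.cast' (d' := 8) (k' := 2) rfl rfl ((two o31 1).trans (mul_comm _ _))
    exact orth_place hab C'
  · obtain ⟨C, -⟩ := M3.sum R2 (Or.inl rfl) (Or.inr rfl)
    obtain ⟨C', -⟩ := C.cast' (d' := 8) (k' := 2) rfl rfl ((two o32 1).trans (mul_comm _ _))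
    exact orth_place hab C'
  · obtain ⟨C, -⟩ := P2.sum P1 (Or.inr rfl) (Or.inr rfl)
    obtain ⟨C₁, -⟩ := C.cast' (d' := 6) (k' := 0) rfl rfl c21.lcm_eq_mul
    obtain ⟨C₂, -⟩ := C₁.sum R2 (Or.inl rfl) (Or.inr rfl)
    obtain ⟨C', -⟩ := C₂.cast' (d' := 8) (k' := 2) rfl rfl ((two (o21.mul o11) 1).trans (mul_comm _ _))
    exact orth_place hab C'
  · obtain ⟨C, -⟩ := P2.sum M1 (Or.inr rfl) (Or.inl rfl)
    obtain ⟨C₁, -⟩ := C.cast' (d' := 6) (k' := 2) rfl rfl c22.lcm_eq_mul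
    obtain ⟨C₂, -⟩ := C₁.sum R0 (Or.inr rfl) (Or.inl rfl)
    obtain ⟨C', -⟩ := C₂.cast' (d' := 8) (k' := 2) rfl rfl ((two (o21.mul o12) 1).trans (mul_comm _ _))
    exact orth_place hab C'
  · obtain ⟨C₂, -⟩ := P2.sum U4 (Or.inr rfl) (Or.inl rfl)
    obtain ⟨C', -⟩ := C₂.cast' (d' := 8) (k' := 2) rfl rfl ((two o21 2).trans (mul_comm _ _))
    exact orth_place hab C'
  · obtain ⟨C, -⟩ := P1.sum M1 (Or.inr rfl) (Or.inl rfl)
    obtain ⟨C₁, -⟩ := C.cast' (d' := 4) (k' := 2) (n' := q ^ 2 - 1) rfl rfl (by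
      rw [c11.symm.lcm_eq_mul]
      simpa using (Nat.sq_sub_sq q 1).symm)
    obtain ⟨C₂, -⟩ := C₁.sum U4 (Or.inr rfl) (Or.inl rfl)
    obtain ⟨C', -⟩ := C₂.cast' (d' := 8) (k' := 2) rfl rfl ((two o22 2).trans (mul_comm _ _))
    exact orth_place hab C'
  · obtain ⟨C₂, -⟩ := P1.sum J0 (Or.inr rfl) (Or.inl rfl)
    obtain ⟨C', -⟩ := C₂.cast' (d' := 8) (k' := 2) rfl rfl ((two o11 3).trans (mul_comm _ _))
    exact orth_place hab C'
  · obtain ⟨C₂, -⟩ := M1.sum J2 (Or.inl rfl) (Or.inr rfl)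
    obtain ⟨C', -⟩ := C₂.cast' (d' := 8) (k' := 2) rfl rfl ((two o12 3).trans (mul_comm _ _))
    exact orth_place hab C'

end Cfsg.Lib.SpecSympEight
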