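import Cfsg.Agent.SpecSympEight.Blocks
import Cfsg.Agent.Known.AutPSLn.Invol.Odd

/-! Small unipotent blocks. -/

set_option autoImplicit false
set_option linter.style.haveILetI false
set_option linter.unusedSectionVars false

open QuadraticMap Submodule Cfsg.Lib.Classical

namespace Cfsg.Lib.SpecSympEight

open FormNormal

universe u

variable {F : Type u} [Field F] [Fintype F]

theorem exists_plane_minus {ζ : F} (hζ : ∀ t : F, t ^ 2 + t + ζ ≠ 0) :
    ∃ D : Decomp (Refl.minusForm 0 F 1 ζ) (⊤ : Submodule F ((Fin 0 ⊕ Fin 0) ⊕ Fin 2 → F)),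
      Module.finrank F D.K = 2 := by
  have hab := OrthCount.aniso_of_root_free hζ
  obtain ⟨D⟩ := exists_decomp (Refl.minusForm 0 F 1 ζ) _ ⊤ rfl (nd_top _ (Refl.minusForm_nondegenerate' 0 hab))
  refine ⟨D, ?_⟩
  have hm : D.m = 0 := MinusExtend.minus_index _ hab D
  have h1 := D.dim
  rw [finrank_top, hm, Module.finrank_fintype_fun_eq_card] at h1
  simpa using h1

/-- The fixed blocks of dimension two. -/
theorem exists_id (k : ℕ) (hk : k = 0 ∨ k = 2) :
    ∃ (V : Type u) (_ : AddCommGroup V) (_ : Module F V) (_ : FiniteDimensional F V) (B : Blk (F := F) V 2 k 1 2),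
      B.T = 1 := by
  rcases hk with rfl | rfl
  · obtain ⟨D, -, hK, hnd⟩ := OrthGlue.exists_plus_space F 1
    exact ⟨_, _, _, inferInstance, ⟨HypQuad.plusForm 1 F, hnd, D, 1, fun v => rfl, by simp, hK, orderOf_one,
      by rw [sub_self, LinearMap.ker_zero, finrank_top]; simp⟩, rfl⟩
  · obtain ⟨ζ, hζ⟩ := Known.AutPSLn.Invol.exists_root_free F
    obtain ⟨D, hK⟩ := exists_plane_minus hζ
    exact ⟨_, _, _, inferInstance, ⟨Refl.minusForm 0 F 1 ζ,
      Refl.minusForm_nondegenerate' 0 (OrthCount.aniso_of_root_free hζ), D, 1, fun v => rfl, by simp, hK, orderOf_one,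
      by rw [sub_self, LinearMap.ker_zero, finrank_top]; simp⟩, rfl⟩

variable [CharP F 2]

/-- The involutions of the plane. -/
theorem exists_refl (k : ℕ) (hk : k = 0 ∨ k = 2) :
    ∃ (V : Type u) (_ : AddCommGroup V) (_ : Module F V) (_ : FiniteDimensional F V),
      Nonempty (Blk (F := F) V 2 k 2 1) := by
  haveI : Fact (Nat.Prime 2) := ⟨Nat.prime_two⟩
  rcases hk with rfl | rfl
  · obtain ⟨D, -, hK, hnd⟩ := OrthGlue.exists_plus_space F 1
    let T : Module.End F (Fin 1 ⊕ Fin 1 → F) :=
      { toFun := fun v => Sum.elim (fun i => v (.inr i)) (fun i => v (.inl i))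
        map_add' := fun u v => by funext i; rcases i with i | i <;> rfl
        map_smul' := fun c v => by funext i; rcases i with i | i <;> rfl }
    have hTT : T ^ 2 = 1 := by
      rw [pow_two]
      refine LinearMap.ext fun v => funext fun i => ?_
      rcases i with i | i <;> rfl
    have hT1 : T ≠ 1 := fun h => by
      have := congrFun (LinearMap.congr_fun h (Pi.single (.inl 0) 1)) (.inl 0)
      simp [T] at this
    refine ⟨_, _, _, inferInstance, ⟨⟨HypQuad.plusForm 1 F, hnd, D, T, fun v => ?_, by simp, hK,
      orderOf_eq_prime hTT hT1, ?_⟩⟩⟩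
    · simp [T, HypQuad.plusForm_apply, Cfsg.quadFormPlus, mul_comm]
    · refine ((show LinearMap.ker (T - 1) ≃ₗ[F] F from
        { toFun := fun x => x.1 (.inl 0)
          invFun := fun c => ⟨fun _ => c, LinearMap.mem_ker.2 (funext fun i => by rcases i with i | i <;> simp [T])⟩
          left_inv := fun x => Subtype.ext (funext fun i => by
            have h := LinearMap.mem_ker.1 x.2
            have h0 : x.1 (.inr 0) = x.1 (.inl 0) := sub_eq_zero.1 (congrFun h (.inl 0))
            rcases i with i | i <;> fin_cases i
            · rfl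
            · exact h0.symm)
          right_inv := fun c => rfl
          map_add' := fun _ _ => rfl
          map_smul' := fun _ _ => rfl }).finrank_eq).trans (Module.finrank_self F)
  · obtain ⟨ζ, hζ⟩ := Known.AutPSLn.Invol.exists_root_free F
    obtain ⟨D, hK⟩ := exists_plane_minus hζ
    let T : Module.End F ((Fin 0 ⊕ Fin 0) ⊕ Fin 2 → F) :=
      { toFun := fun v => Sum.elim (fun i => v (.inl i)) ![v (.inr 0) + v (.inr 1), v (.inr 1)]
        map_add' := fun u v => by
          funext i
          rcases i with (i | i) | i
          · exact i.elim0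
          · exact i.elim0
          · fin_cases i
            · simp; ring
            · simp
        map_smul' := fun c v => by
          funext i
          rcases i with (i | i) | i
          · exact i.elim0
          · exact i.elim0
          · fin_cases i <;> simp [mul_add] }
    have hTT : T ^ 2 = 1 := by
      rw [pow_two]
      refine LinearMap.ext fun v => funext fun i => ?_
      rcases i with (i | i) | i
      · exact i.elim0
      · exact i.elim0
      · fin_cases i
        · show v (.inr 0) + v (.inr 1) + v (.inr 1) = v (.inr 0)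
          rw [add_assoc, CharTwo.add_self_eq_zero, add_zero]
        · rfl
    have hT1 : T ≠ 1 := fun h => by
      have := congrFun (LinearMap.congr_fun h (Pi.single (.inr 1) 1)) (.inr 0)
      simp [T] at this
    refine ⟨_, _, _, inferInstance, ⟨⟨Refl.minusForm 0 F 1 ζ,
      Refl.minusForm_nondegenerate' 0 (OrthCount.aniso_of_root_free hζ), D, T, fun v => ?_, by simp, hK,
      orderOf_eq_prime hTT hT1, ?_⟩⟩⟩
    · simp [T, Refl.minusForm_coe, Cfsg.quadFormMinus]
      linear_combination (v (.inr 0) * v (.inr 1) + v (.inr 1) * v (.inr 1)) * (CharTwo.two_eq_zero : (2 : F) = 0)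
    · refine ((show LinearMap.ker (T - 1) ≃ₗ[F] F from
        { toFun := fun x => x.1 (.inr 0)
          invFun := fun c => ⟨Sum.elim (fun _ => 0) ![c, 0], LinearMap.mem_ker.2 (funext fun i => by
            rcases i with (i | i) | i
            · exact i.elim0
            · exact i.elim0
            · fin_cases i <;> simp [T])⟩
          left_inv := fun x => Subtype.ext (funext fun i => by
            have h0 : x.1 (.inr 0) + x.1 (.inr 1) = x.1 (.inr 0) :=
              sub_eq_zero.1 (congrFun (LinearMap.mem_ker.1 x.2) (.inr 0))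
            rw [add_eq_left] at h0
            rcases i with (i | i) | i
            · exact i.elim0
            · exact i.elim0
            · fin_cases i
              · rfl
              · exact h0.symm)
          right_inv := fun c => rfl
          map_add' := fun _ _ => rfl
          map_smul' := fun c x => rfl }).finrank_eq).trans (Module.finrank_self F)

/-- The unipotent isometry of order four of a hyperbolic space of dimension four. -/
def uFour : Module.End F (Fin 2 ⊕ Fin 2 → F) where
  toFun v := Sum.elim ![v (.inl 0) + v (.inl 1), v (.inr 1) + v (.inr 0)] ![v (.inr 0), v (.inl 1)]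
  map_add' u v := by funext i; rcases i with i | i <;> fin_cases i <;> simp <;> ring
  map_smul' c v := by funext i; rcases i with i | i <;> fin_cases i <;> simp [mul_add]

theorem uFour_apply (v : Fin 2 ⊕ Fin 2 → F) :
    uFour v = Sum.elim ![v (.inl 0) + v (.inl 1), v (.inr 1) + v (.inr 0)] ![v (.inr 0), v (.inl 1)] := rfl

theorem uFour_sq (v : Fin 2 ⊕ Fin 2 → F) :
    (uFour ^ 2 : Module.End F (Fin 2 ⊕ Fin 2 → F)) v =
      Sum.elim ![v (.inl 0) + v (.inl 1) + (v (.inr 1) + v (.inr 0)), v (.inl 1) + v (.inr 0)]
        ![v (.inr 0), v (.inr 1) + v (.inr 0)] := by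
  rw [pow_two, Module.End.mul_apply, uFour_apply, uFour_apply]
  funext i
  rcases i with i | i <;> fin_cases i <;> simp

theorem uFour_pow : (uFour : Module.End F (Fin 2 ⊕ Fin 2 → F)) ^ 4 = 1 := by
  refine LinearMap.ext fun v => funext fun i => ?_
  rw [show 4 = 2 + 2 from rfl, pow_add, Module.End.mul_apply, uFour_sq, uFour_sq, Module.End.one_apply]
  have h2 : (2 : F) = 0 := CharTwo.two_eq_zero
  rcases i with i | i <;> fin_cases i <;> simp
  · linear_combination (v (.inl 1) + v (.inr 1) + 2 * v (.inr 0)) * h2
  · linear_combination v (.inr 0) * h2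
  · linear_combination v (.inr 0) * h2

set_option maxHeartbeats 2000000 in
/-- The hyperbolic blocks of dimension four. -/
theorem exists_u4 :
    (∃ B : Blk (F := F) (Fin 2 ⊕ Fin 2 → F) 4 0 4 1, ∃ v, (∑ i ∈ Finset.range 4, B.T ^ i) v ≠ 0) ∧
      ∃ B : Blk (F := F) (Fin 2 ⊕ Fin 2 → F) 4 0 2 2, ∃ v, (∑ i ∈ Finset.range 2, B.T ^ i) v ≠ 0 := by
  haveI : Fact (Nat.Prime 2) := ⟨Nat.prime_two⟩
  obtain ⟨D, -, hK, hnd⟩ := OrthGlue.exists_plus_space F 2
  have hiso : ∀ v, HypQuad.plusForm 2 F (uFour v) = HypQuad.plusForm 2 F v := fun v => by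
    simp [uFour_apply, HypQuad.plusForm_apply, Cfsg.quadFormPlus, Fin.sum_univ_two]
    linear_combination (v (.inl 1) * v (.inr 0)) * (CharTwo.two_eq_zero : (2 : F) = 0)
  have h2ne : (uFour : Module.End F (Fin 2 ⊕ Fin 2 → F)) ^ 2 ≠ 1 := fun h => by
    have := congrFun (LinearMap.congr_fun h (Pi.single (.inr 0) 1)) (.inr 1)
    rw [uFour_sq] at this
    simp at this
  have ho : orderOf (uFour : Module.End F (Fin 2 ⊕ Fin 2 → F)) = 4 :=
    orderOf_eq_prime_pow (p := 2) (n := 1) (by simpa using h2ne) (by simpa using uFour_pow)
  have h20 : (2 : F) = 0 := CharTwo.two_eq_zero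
  refine ⟨⟨⟨_, hnd, D, uFour, hiso, by simp, hK, ho, ?_⟩, Pi.single (.inr 0) 1, fun h => ?_⟩,
    ⟨⟨_, hnd, D, uFour ^ 2, fun v => by rw [pow_two, Module.End.mul_apply, hiso, hiso], by simp, hK,
      orderOf_eq_prime (by rw [← pow_mul]; exact uFour_pow) h2ne, ?_⟩, Pi.single (.inr 0) 1, fun h => ?_⟩⟩
  · refine ((show LinearMap.ker ((uFour : Module.End F (Fin 2 ⊕ Fin 2 → F)) - 1) ≃ₗ[F] F from
      { toFun := fun x => x.1 (.inl 0)
        invFun := fun c => ⟨Sum.elim ![c, 0] ![0, 0], LinearMap.mem_ker.2 (funext fun i => by
          rcases i with i | i <;> fin_cases i <;> simp [uFour_apply])⟩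
        left_inv := fun x => Subtype.ext (by
          have h := LinearMap.mem_ker.1 x.2
          rw [LinearMap.sub_apply, Module.End.one_apply, sub_eq_zero, uFour_apply] at h
          have a := congrFun h (.inl 0)
          have b := congrFun h (.inl 1)
          have d := congrFun h (.inr 1)
          simp at a b d
          funext i
          rcases i with i | i <;> fin_cases i
          · rfl
          · exact a.symm
          · show (0 : F) = x.1 (.inr 0)
            linear_combination -b - d
          · show (0 : F) = x.1 (.inr 1)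
            linear_combination d - a)
        right_inv := fun c => rfl
        map_add' := fun _ _ => rfl
        map_smul' := fun _ _ => rfl }).finrank_eq).trans (Module.finrank_self F)
  · have := congrFun h (.inl 0)
    rw [Finset.sum_range_succ, Finset.sum_range_succ, Finset.sum_range_succ, Finset.sum_range_one, pow_zero, pow_one,
      pow_succ' _ 2, LinearMap.add_apply, LinearMap.add_apply, LinearMap.add_apply, Module.End.mul_apply, uFour_sq,
      uFour_apply, uFour_apply] at this
    simp at this
    exact one_ne_zero (show (1 : F) = 0 by linear_combination this - h20)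
  · refine ((show LinearMap.ker ((uFour : Module.End F (Fin 2 ⊕ Fin 2 → F)) ^ 2 - 1) ≃ₗ[F] Fin 2 → F from
      { toFun := fun x => ![x.1 (.inl 0), x.1 (.inl 1)]
        invFun := fun c => ⟨Sum.elim ![c 0, c 1] ![0, c 1], LinearMap.mem_ker.2 (funext fun i => by
          rw [LinearMap.sub_apply, uFour_sq, Module.End.one_apply]
          rcases i with i | i <;> fin_cases i <;> simp
          linear_combination c 1 * h20)⟩
        left_inv := fun x => Subtype.ext (by
          have h := LinearMap.mem_ker.1 x.2
          rw [LinearMap.sub_apply, Module.End.one_apply, sub_eq_zero, uFour_sq] at h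
          have a := congrFun h (.inl 0)
          have b := congrFun h (.inl 1)
          simp at a b
          funext i
          rcases i with i | i <;> fin_cases i
          · rfl
          · rfl
          · exact b.symm
          · show x.1 (.inl 1) = x.1 (.inr 1)
            linear_combination a - b - x.1 (.inr 1) * h20)
        right_inv := fun c => funext fun i => by fin_cases i <;> rfl
        map_add' := fun _ _ => funext fun i => by fin_cases i <;> rfl
        map_smul' := fun _ _ => funext fun i => by fin_cases i <;> rfl }).finrank_eq).trans (by simp)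
  · have := congrFun h (.inr 1)
    rw [Finset.sum_range_succ, Finset.sum_range_one, pow_zero, pow_one, LinearMap.add_apply, uFour_sq] at this
    simp at this

end Cfsg.Lib.SpecSympEight
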