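import Cfsg.Agent.SpecSympEight.Lower
import Cfsg.Agent.SpecSympEight.Small
import Cfsg.Agent.SpecSymp.Affine
import Cfsg.Agent.Known.OmegaRank
import Cfsg.Agent.Known.PrimeGraphOrth.Transfer

/-! The affine model isospectral to `PSp (8, q)`, `q` even. -/

set_option autoImplicit false
set_option linter.style.haveILetI false
set_option linter.unusedSectionVars false

open QuadraticMap Submodule Cfsg Cfsg.Lib.Classical Cfsg.Lib.Classical.Refl
open Cfsg.Lib.SpecSymp (aff gsum)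

namespace Cfsg.Lib.SpecSympEight

open FormNormal

universe u

variable {F : Type u} [Field F] [Fintype F] [CharP F 2]

/-- Forgetting linearity. -/
def forget (V : Type u) [AddCommGroup V] [Module F V] : Module.End F V →+* AddMonoid.End V where
  toFun T := T.toAddMonoidHom
  map_one' := rfl
  map_mul' _ _ := rfl
  map_zero' := rfl
  map_add' _ _ := rfl

theorem forget_injective (V : Type u) [AddCommGroup V] [Module F V] : Function.Injective (forget (F := F) V) :=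
  fun _ _ h => LinearMap.toAddMonoidHom_injective h

local notation "V₈" => (Fin 3 ⊕ Fin 3) ⊕ Fin 2 → F

theorem minus_nd {ζ : F} (hζ : ∀ t : F, t ^ 2 + t + ζ ≠ 0) :
    (polarBilin (Refl.minusForm 3 F 1 ζ)).Nondegenerate :=
  Refl.minusForm_nondegenerate' 3 (OrthCount.aniso_of_root_free hζ)

/-- The group of the model. -/
noncomputable def kerDickson {ζ : F} (hζ : ∀ t : F, t ^ 2 + t + ζ ≠ 0) :
    Subgroup (Cfsg.isometryGroup F (⇑(Refl.minusForm 3 F 1 ζ))) :=
  (dickson (Refl.minusForm 3 F 1 ζ) (minus_nd hζ)).ker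

/-- Its action. -/
noncomputable def rhoMinus {ζ : F} (hζ : ∀ t : F, t ^ 2 + t + ζ ≠ 0) :
    kerDickson hζ →* AddMonoid.End V₈ :=
  ((forget (F := F) V₈).toMonoidHom.comp (PrimeGraphOrth.toEnd (Refl.minusForm 3 F 1 ζ))).comp (kerDickson hζ).subtype

theorem mem_kerDickson {ζ : F} (hζ : ∀ t : F, t ^ 2 + t + ζ ≠ 0) (g : Cfsg.isometryGroup F (⇑(Refl.minusForm 3 F 1 ζ))) :
    g ∈ kerDickson hζ ↔
      Even (Module.finrank F (LinearMap.ker (PrimeGraphOrth.toEnd (Refl.minusForm 3 F 1 ζ) g - 1))) := by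
  rw [kerDickson, MonoidHom.mem_ker]
  show (-1 : ℤˣ) ^ gap (Refl.minusForm 3 F 1 ζ) g 1 = 1 ↔ _
  rw [neg_one_pow_eq_one_iff_even (by decide)]
  have e : LinearMap.ker (Matrix.toLin' (mat (Refl.minusForm 3 F 1 ζ) g) -
      Matrix.toLin' (mat (Refl.minusForm 3 F 1 ζ) 1)) =
      LinearMap.ker (PrimeGraphOrth.toEnd (Refl.minusForm 3 F 1 ζ) g - 1) := by
    ext x
    simp [LinearMap.mem_ker, PrimeGraphOrth.toEnd_apply, Matrix.toLin'_apply, sub_eq_zero,
      show mat (Refl.minusForm 3 F 1 ζ) 1 = 1 from rfl]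
  rw [gap, e]
  have hle := (LinearMap.ker (PrimeGraphOrth.toEnd (Refl.minusForm 3 F 1 ζ) g - 1)).finrank_le
  rw [Module.finrank_fintype_fun_eq_card] at hle
  have hc : Fintype.card ((Fin 3 ⊕ Fin 3) ⊕ Fin 2) = 8 := by simp
  rw [hc] at hle ⊢
  rw [Nat.even_iff, Nat.even_iff]
  omega

theorem two_smul_zero (v : V₈) : 2 • v = 0 := by
  funext i
  rw [Pi.smul_apply, nsmul_eq_mul, CharP.cast_eq_zero, zero_mul]
  rfl

/-- The upper bound. -/
theorem upper {ζ : F} (hζ : ∀ t : F, t ^ 2 + t + ζ ≠ 0) :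
    ∀ e : aff (rhoMinus hζ), ∃ d, Spec (Fintype.card F) d ∧ orderOf e ∣ d := by
  classical
  refine Cfsg.Lib.SpecSymp.dvd_of_forall _ (p := 2) two_smul_zero _ fun γ => ?_
  set Q := Refl.minusForm 3 F 1 ζ
  set A := mat Q γ.1 with hA
  set G : Matrix ((Fin 3 ⊕ Fin 3) ⊕ Fin 2) ((Fin 3 ⊕ Fin 3) ⊕ Fin 2) F :=
    LinearMap.BilinForm.toMatrix' (polarBilin Q)
  have hGd : G.det ≠ 0 := (LinearMap.BilinForm.nondegenerate_toMatrix'_iff.2 (minus_nd hζ)).det_ne_zero
  have hAG : A.transpose * G * A = G := by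
    have e : LinearMap.BilinForm.comp (polarBilin Q : LinearMap.BilinForm F V₈) (Matrix.toLin' A)
        (Matrix.toLin' A) = polarBilin Q := LinearMap.ext₂ fun x y => by
      show polar (⇑Q) (Matrix.toLin' A x) (Matrix.toLin' A y) = _
      rw [Matrix.toLin'_apply, Matrix.toLin'_apply]
      exact polar_act Q γ.1 x y
    have := congrArg LinearMap.BilinForm.toMatrix' e
    rwa [LinearMap.BilinForm.toMatrix'_comp, LinearMap.toMatrix'_toLin'] at this
  obtain ⟨d, hd, hAd, hsum⟩ := pow_eq_one (by simp) A G (isUnit_iff_ne_zero.2 hGd) hAG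
  have hk : Module.finrank F (LinearMap.ker (Matrix.toLin' A - 1)) ≠ 1 := fun h => by
    have h2 : Even (Module.finrank F (LinearMap.ker (Matrix.toLin' A - 1))) := (mem_kerDickson hζ γ.1).1 γ.2
    rw [h] at h2
    exact Nat.not_even_one h2
  refine ⟨d, hd, Or.inl ⟨?_, ?_⟩⟩
  · show (forget V₈ (Matrix.toLin' A)) ^ d = 1
    rw [← map_pow, ← Matrix.toLin'_pow, hAd, Matrix.toLin'_one]
    rfl
  · show gsum (forget V₈ (Matrix.toLin' A)) d = 0
    rw [gsum]
    simp only [← map_pow, ← Matrix.toLin'_pow]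
    rw [← map_sum, ← map_sum, hsum hk, map_zero, map_zero]

variable {V : Type u} [AddCommGroup V] [Module F V] [FiniteDimensional F V]

/-- A block of dimension eight of minus type lives in the model. -/
theorem place {ζ : F} (hζ : ∀ t : F, t ^ 2 + t + ζ ≠ 0) {n fx : ℕ} (B : Blk (F := F) V 8 2 n fx) (hfx : Even fx) :
    (∃ e : aff (rhoMinus hζ), orderOf e = n) ∧
      ((∃ v, (∑ i ∈ Finset.range n, B.T ^ i) v ≠ 0) → ∃ e : aff (rhoMinus hζ), orderOf e = 2 * n) := by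
  classical
  set Q := Refl.minusForm 3 F 1 ζ with hQ
  obtain ⟨D0⟩ := exists_decomp Q _ ⊤ rfl (nd_top _ (minus_nd hζ))
  have hD0 : D0.m = 3 := MinusExtend.minus_index _ (OrthCount.aniso_of_root_free hζ) D0
  have h1 := B.D.dim
  rw [finrank_top, B.hk, B.hdim] at h1
  have hd8 : Module.finrank F V₈ = 8 := by simp
  obtain ⟨e, he⟩ := equiv_of_index B.D D0 (by omega) (by rw [B.hdim, hd8]) (by rw [B.hdim]; exact ⟨4, rfl⟩)
  set T₀ : Module.End F V₈ := e.conj B.T with hT₀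
  have hTapply : ∀ v, T₀ (e v) = e (B.T v) := fun v => by simp [T₀, LinearEquiv.conj_apply]
  have hiso : ∀ v, Q (T₀ v) = Q v := fun v => by
    obtain ⟨v, rfl⟩ := e.surjective v
    rw [hTapply, ← he, B.iso, he]
  have ho : orderOf T₀ = n := by
    rw [← B.ord]
    exact orderOf_injective e.conjRingEquiv.toMonoidHom e.conjRingEquiv.injective B.T
  have hfin : Finite (Module.End F V₈) := Finite.of_injective (fun T => (T : V₈ → V₈)) DFunLike.coe_injective
  have hu : IsUnit T₀ := by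
    have hinj : Function.Injective B.T := by
      rw [← LinearMap.ker_eq_bot, LinearMap.ker_eq_bot']
      intro v hv
      refine B.nd.1 v fun y => ?_
      show polar (⇑B.Q) v y = 0
      have h1 : B.Q (v + y) = B.Q y := by rw [← B.iso, map_add, hv, zero_add, B.iso]
      have h2 : B.Q v = 0 := by rw [← B.iso, hv, QuadraticMap.map_zero]
      simp [polar, h1, h2]
    rw [Module.End.isUnit_iff]
    exact ⟨fun x y h => by
      obtain ⟨x, rfl⟩ := e.surjective x
      obtain ⟨y, rfl⟩ := e.surjective y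
      rw [hTapply, hTapply] at h
      rw [hinj (e.injective h)], fun y => by
      obtain ⟨y, rfl⟩ := e.surjective y
      obtain ⟨x, rfl⟩ := (LinearMap.injective_iff_surjective.1 hinj) y
      exact ⟨e x, hTapply x⟩⟩
  obtain ⟨g, hg⟩ := PrimeGraphOrth.exists_of_end Q T₀ hiso hu
  have hker : Module.finrank F (LinearMap.ker (T₀ - 1)) = fx := by
    rw [← B.fix]
    refine (LinearEquiv.finrank_eq (show LinearMap.ker (B.T - 1) ≃ₗ[F] LinearMap.ker (T₀ - 1) from
      { toFun := fun x => ⟨e x.1, by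
          have h := LinearMap.mem_ker.1 x.2
          rw [LinearMap.sub_apply, Module.End.one_apply, sub_eq_zero] at h
          rw [LinearMap.mem_ker, LinearMap.sub_apply, Module.End.one_apply, hTapply, h, sub_self]⟩
        invFun := fun x => ⟨e.symm x.1, by
          have h := LinearMap.mem_ker.1 x.2
          rw [LinearMap.sub_apply, Module.End.one_apply, sub_eq_zero, ← e.apply_symm_apply x.1, hTapply] at h
          rw [LinearMap.mem_ker, LinearMap.sub_apply, Module.End.one_apply, e.injective h, sub_self]⟩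
        left_inv := fun x => Subtype.ext (e.symm_apply_apply _)
        right_inv := fun x => Subtype.ext (e.apply_symm_apply _)
        map_add' := fun x y => Subtype.ext (map_add e x.1 y.1)
        map_smul' := fun c x => Subtype.ext (map_smul e c x.1) })).symm
  have hmem : g ∈ kerDickson hζ := (mem_kerDickson hζ g).2 (by rw [hg, hker]; exact hfx)
  have hρ : rhoMinus hζ ⟨g, hmem⟩ = forget V₈ T₀ := by rw [← hg]; rfl
  have hρo : orderOf (rhoMinus hζ ⟨g, hmem⟩) = n := by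
    rw [hρ, ← ho]
    exact orderOf_injective (forget V₈).toMonoidHom (forget_injective V₈) T₀
  refine ⟨?_, fun ⟨v, hv⟩ => ?_⟩
  · obtain ⟨x, hx⟩ := Cfsg.Lib.SpecSymp.exists_linear (rhoMinus hζ) ⟨g, hmem⟩
    exact ⟨x, hx.trans hρo⟩
  · have hn0 : 0 < n := by
      rw [← ho]
      obtain ⟨u, hu'⟩ := hu
      rw [← hu', orderOf_units]
      exact orderOf_pos u
    refine Cfsg.Lib.SpecSymp.exists_twisted (rhoMinus hζ) Nat.prime_two two_smul_zero ⟨g, hmem⟩ hρo hn0 (v := e v) ?_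
    rw [hρ, gsum]
    simp only [← map_pow, ← map_sum]
    show (∑ i ∈ Finset.range n, T₀ ^ i) (e v) ≠ 0
    have hpow : ∀ i, (T₀ ^ i) (e v) = e ((B.T ^ i) v) := fun i => by
      induction i with
      | zero => rfl
      | succ i ih => rw [pow_succ', pow_succ', Module.End.mul_apply, Module.End.mul_apply, ih, hTapply]
    rw [LinearMap.sum_apply] at hv ⊢
    simp only [hpow, ← map_sum]
    exact fun h => hv (e.injective (h.trans (map_zero e).symm))

theorem geom_one (n : ℕ) (v : V) : (∑ i ∈ Finset.range n, (1 : Module.End F V) ^ i) v = n • v := by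
  simp

theorem geom_mul (R : Module.End F V) {k : ℕ} (hR : R ^ k = 1) (m : ℕ) :
    ∑ i ∈ Finset.range (m * k), R ^ i = m • ∑ i ∈ Finset.range k, R ^ i := by
  induction m with
  | zero => simp
  | succ m ih =>
    rw [Nat.succ_mul, Finset.sum_range_add, ih, succ_nsmul]
    congr 1
    refine Finset.sum_congr rfl fun i _ => ?_
    rw [pow_add, mul_comm m, pow_mul, hR, one_pow, one_mul]

theorem odd_smul (R : Type u) [Field R] [CharP R 2] {M : Type u} [AddCommGroup M] [Module R M] {n : ℕ} (hn : Odd n)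
    {v : M} (hv : v ≠ 0) : n • v ≠ 0 := by
  obtain ⟨j, rfl⟩ := hn
  rw [← Nat.cast_smul_eq_nsmul R, Nat.cast_add, Nat.cast_mul, CharP.cast_eq_zero R 2, zero_mul, zero_add,
    Nat.cast_one, one_smul]
  exact hv

/-- Twisting by a summand. -/
theorem twist_summand {ζ : F} (hζ : ∀ t : F, t ^ 2 + t + ζ ≠ 0) {W : Type u} [AddCommGroup W] [Module F W]
    [FiniteDimensional F W] {d e k l n m a b : ℕ} (A : Blk (F := F) V d k n a) (B : Blk (F := F) W e l m b)
    (hk : k = 0 ∨ k = 2) (hl : l = 0 ∨ l = 2) (hde : d + e = 8) (hkl : k ≠ l) (hab : Even (a + b)) (hn : Odd n)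
    (hcop : Nat.lcm n m = n * m) (hv : ∃ v, (∑ i ∈ Finset.range m, B.T ^ i) v ≠ 0) :
    ∃ x : aff (rhoMinus hζ), orderOf x = 2 * (n * m) := by
  obtain ⟨C', hC'⟩ := A.sum B hk hl
  obtain ⟨v, hv⟩ := hv
  have key : ∀ (D : ℕ) (K : ℕ) (N : ℕ) (X : Blk (F := F) (V × W) D K N (a + b)), D = 8 → K = 2 → N = n * m →
      X.T = LinearMap.prodMap A.T B.T → ∃ x : aff (rhoMinus hζ), orderOf x = 2 * (n * m) := by
    intro D K N X hD hK hN hX
    subst hD hK hN
    refine (place hζ X hab).2 ⟨(0, v), ?_⟩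
    rw [hX, geom_prodMap, geom_mul B.T (orderOf_dvd_iff_pow_eq_one.1 B.ord.dvd) n, LinearMap.smul_apply]
    exact fun h => odd_smul F hn hv (congrArg Prod.snd h)
  exact key _ _ _ C' hde (if_neg hkl) hcop hC'

theorem Blk.cast' {d d' k k' n n' a : ℕ} (B : Blk (F := F) V d k n a) (h1 : d = d') (h2 : k = k') (h3 : n = n') :
    ∃ C : Blk (F := F) V d' k' n' a, C.T = B.T := by
  subst h1 h2 h3
  exact ⟨B, rfl⟩

/-- A geometric sum on the first summand. -/
theorem lift_geom {W : Type u} [AddCommGroup W] [Module F W] {T : Module.End F V} {R : Module.End F W}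
    {X Y : Module.End F (V × W)} {k : ℕ} (h : ∃ v, (∑ i ∈ Finset.range k, T ^ i) v ≠ 0)
    (hX : X = Y) (hY : Y = LinearMap.prodMap T R) : ∃ v, (∑ i ∈ Finset.range k, X ^ i) v ≠ 0 := by
  obtain ⟨v, hv⟩ := h
  refine ⟨(v, 0), fun e => hv ?_⟩
  rw [hX, hY, LinearMap.sum_apply] at e
  rw [LinearMap.sum_apply]
  have hp : ∀ i, ((LinearMap.prodMap T R : Module.End F (V × W)) ^ i) (v, 0) = ((T ^ i) v, 0) := fun i => by
    induction i with
    | zero => rfl
    | succ i ih => rw [pow_succ', Module.End.mul_apply, ih, pow_succ', Module.End.mul_apply]; simp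
  simp only [hp] at e
  have := congrArg Prod.fst e
  rwa [Prod.fst_sum] at this

/-- All maximal orders occur in the model. -/
theorem lower {ζ : F} (hζ : ∀ t : F, t ^ 2 + t + ζ ≠ 0) {d : ℕ} (hd : Spec (Fintype.card F) d) :
    ∃ e : aff (rhoMinus hζ), orderOf e = d := by
  obtain ⟨hq2, hq⟩ := q_even (F := F)
  set q := Fintype.card F with hqdef
  have tor : ∀ (a : ℕ), 1 ≤ a → ∀ (minus : Bool) (N : ℕ), (N = if minus then q ^ a + 1 else q ^ a - 1) →
      ∃ fx, Even fx ∧ Nonempty (Blk (F := F) (Fin (2 * a) → F) (2 * a) (if minus then 2 else 0) N fx) :=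
    fun a ha minus N hN => exists_torus a ha minus hN
  obtain ⟨_, fp4, ⟨P4⟩⟩ := tor 4 (by norm_num) true (q ^ 4 + 1) rfl
  obtain ⟨_, fp3, ⟨P3⟩⟩ := tor 3 (by norm_num) true (q ^ 3 + 1) rfl
  obtain ⟨_, fm3, ⟨M3⟩⟩ := tor 3 (by norm_num) false (q ^ 3 - 1) rfl
  obtain ⟨_, fp2, ⟨P2⟩⟩ := tor 2 (by norm_num) true (q ^ 2 + 1) rfl
  obtain ⟨_, fm2, ⟨M2⟩⟩ := tor 2 (by norm_num) false (q ^ 2 - 1) rfl
  obtain ⟨_, fp1, ⟨P1⟩⟩ := tor 1 le_rfl true (q + 1) (by simp)
  obtain ⟨_, fm1, ⟨M1⟩⟩ := tor 1 le_rfl false (q - 1) (by simp)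
  simp only [if_true, Bool.false_eq_true, if_false] at P4 P3 M3 P2 M2 P1 M1
  obtain ⟨c31, c32⟩ := coprime_cube hq2 hq
  obtain ⟨c21, c22, c11⟩ := coprime_square hq2 hq
  have odd_of : ∀ {a n : ℕ}, 1 ≤ a → (n = q ^ a + 1 ∨ n = q ^ a - 1) → Odd n := fun ha hn =>
    Nat.coprime_two_right.1 (by simpa using coprime_two_pow hq2 hq ha hn 1)
  have two : ∀ {n : ℕ}, Odd n → ∀ k, Nat.lcm n (2 ^ k) = n * 2 ^ k :=
    fun hn k => ((Nat.coprime_two_right.2 hn).pow_right k).lcm_eq_mul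
  have o31 := odd_of (a := 3) (n := q ^ 3 + 1) (by norm_num) (Or.inl rfl)
  have o32 := odd_of (a := 3) (n := q ^ 3 - 1) (by norm_num) (Or.inr rfl)
  have o21 := odd_of (a := 2) (n := q ^ 2 + 1) (by norm_num) (Or.inl rfl)
  have o22 := odd_of (a := 2) (n := q ^ 2 - 1) (by norm_num) (Or.inr rfl)
  have o11 := odd_of (a := 1) (n := q + 1) le_rfl (Or.inl (by rw [pow_one]))
  have o12 := odd_of (a := 1) (n := q - 1) le_rfl (Or.inr (by rw [pow_one]))
  obtain ⟨⟨U4, hU4⟩, ⟨U2, hU2⟩⟩ := exists_u4 (F := F)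
  obtain ⟨_, _, _, _, I0, hI0⟩ := exists_id (F := F) 0 (Or.inl rfl)
  obtain ⟨_, _, _, _, I2, hI2⟩ := exists_id (F := F) 2 (Or.inr rfl)
  obtain ⟨_, _, _, _, ⟨R0⟩⟩ := exists_refl (F := F) 0 (Or.inl rfl)
  obtain ⟨_, _, _, _, ⟨R2⟩⟩ := exists_refl (F := F) 2 (Or.inr rfl)
  rcases hd with rfl | rfl | rfl | rfl | rfl | rfl | rfl | rfl | rfl | rfl | rfl | rfl
  · exact (place hζ P4 fp4).1
  · obtain ⟨C, -⟩ := P2.sum M2 (Or.inr rfl) (Or.inl rfl)
    obtain ⟨C', -⟩ := C.cast' (d' := 8) (k' := 2) (n' := q ^ 4 - 1) rfl rfl (by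
      rw [(coprime_adjacent hq2 (a := 2) (by norm_num) rfl rfl hq).symm.lcm_eq_mul]
      have := Nat.sq_sub_sq (q ^ 2) 1
      simp only [one_pow, ← pow_mul] at this
      exact this.symm)
    exact (place hζ C' (fp2.add fm2)).1
  · obtain ⟨C, -⟩ := P3.sum M1 (Or.inr rfl) (Or.inl rfl)
    obtain ⟨C', -⟩ := C.cast' (d' := 8) (k' := 2) rfl rfl c31.lcm_eq_mul
    exact (place hζ C' (fp3.add fm1)).1
  · obtain ⟨C, -⟩ := M3.sum P1 (Or.inl rfl) (Or.inr rfl)
    obtain ⟨C', -⟩ := C.cast' (d' := 8) (k' := 2) rfl rfl c32.lcm_eq_mul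
    exact (place hζ C' (fm3.add fp1)).1
  · obtain ⟨x, hx⟩ := twist_summand hζ P3 I0 (Or.inr rfl) (Or.inl rfl) rfl (by norm_num) (fp3.add even_two) o31
      (by simp) (by
        obtain ⟨v, hv⟩ := (Module.finrank_pos_iff_exists_ne_zero (R := F)).1 (by rw [I0.hdim]; norm_num)
        exact ⟨v, by simpa [hI0] using hv⟩)
    exact ⟨x, by rw [hx, mul_one]⟩
  · obtain ⟨x, hx⟩ := twist_summand hζ M3 I2 (Or.inl rfl) (Or.inr rfl) rfl (by norm_num) (fm3.add even_two) o32
      (by simp) (by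
        obtain ⟨v, hv⟩ := (Module.finrank_pos_iff_exists_ne_zero (R := F)).1 (by rw [I2.hdim]; norm_num)
        exact ⟨v, by simpa [hI2] using hv⟩)
    exact ⟨x, by rw [hx, mul_one]⟩
  · obtain ⟨C, -⟩ := P2.sum P1 (Or.inr rfl) (Or.inr rfl)
    obtain ⟨C', -⟩ := C.cast' (d' := 6) (k' := 0) rfl rfl c21.lcm_eq_mul
    obtain ⟨x, hx⟩ := twist_summand hζ C' I2 (Or.inl rfl) (Or.inr rfl) rfl (by norm_num) ((fp2.add fp1).add even_two)
      (o21.mul o11) (by simp) (by
        obtain ⟨v, hv⟩ := (Module.finrank_pos_iff_exists_ne_zero (R := F)).1 (by rw [I2.hdim]; norm_num)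
        exact ⟨v, by simpa [hI2] using hv⟩)
    exact ⟨x, by rw [hx, mul_one]⟩
  · obtain ⟨C, -⟩ := P2.sum M1 (Or.inr rfl) (Or.inl rfl)
    obtain ⟨C', -⟩ := C.cast' (d' := 6) (k' := 2) rfl rfl c22.lcm_eq_mul
    obtain ⟨x, hx⟩ := twist_summand hζ C' I0 (Or.inr rfl) (Or.inl rfl) rfl (by norm_num) ((fp2.add fm1).add even_two)
      (o21.mul o12) (by simp) (by
        obtain ⟨v, hv⟩ := (Module.finrank_pos_iff_exists_ne_zero (R := F)).1 (by rw [I0.hdim]; norm_num)
        exact ⟨v, by simpa [hI0] using hv⟩)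
    exact ⟨x, by rw [hx, mul_one]⟩
  · obtain ⟨x, hx⟩ := twist_summand hζ P2 U2 (Or.inr rfl) (Or.inl rfl) rfl (by norm_num) (fp2.add even_two) o21
      (by simpa using two o21 1) hU2
    exact ⟨x, by rw [hx]; ring⟩
  · obtain ⟨C, -⟩ := P1.sum M1 (Or.inr rfl) (Or.inl rfl)
    obtain ⟨C', -⟩ := C.cast' (d' := 4) (k' := 2) (n' := q ^ 2 - 1) rfl rfl (by
      rw [c11.symm.lcm_eq_mul]
      simpa using (Nat.sq_sub_sq q 1).symm)
    obtain ⟨x, hx⟩ := twist_summand hζ C' U2 (Or.inr rfl) (Or.inl rfl) rfl (by norm_num) ((fp1.add fm1).add even_two) o22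
      (by simpa using two o22 1) hU2
    exact ⟨x, by rw [hx]; ring⟩
  · obtain ⟨C, hC⟩ := U4.sum R0 (Or.inl rfl) (Or.inl rfl)
    obtain ⟨C', hC'⟩ := C.cast' (d' := 6) (k' := 0) (n' := 4) rfl rfl (by decide)
    obtain ⟨x, hx⟩ := twist_summand hζ P1 C' (Or.inr rfl) (Or.inl rfl) rfl (by norm_num) (fp1.add even_two) o11
      (by simpa using two o11 2) (lift_geom hU4 hC' hC)
    exact ⟨x, by rw [hx]; ring⟩
  · obtain ⟨C, hC⟩ := U4.sum R2 (Or.inl rfl) (Or.inr rfl)
    obtain ⟨C', hC'⟩ := C.cast' (d' := 6) (k' := 2) (n' := 4) rfl rfl (by decide)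
    obtain ⟨x, hx⟩ := twist_summand hζ M1 C' (Or.inl rfl) (Or.inr rfl) rfl (by norm_num) (fm1.add even_two) o12
      (by simpa using two o12 2) (lift_geom hU4 hC' hC)
    exact ⟨x, by rw [hx]; ring⟩

end Cfsg.Lib.SpecSympEight
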