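import Cfsg.Agent.Known.OrthModel
import Cfsg.Agent.Known.SLTwo.Torus

/-! Quadratic spaces with isometries, built from blocks. -/

set_option autoImplicit false
set_option linter.style.haveILetI false
set_option linter.unusedSectionVars false

open QuadraticMap Submodule Cfsg.Lib.Classical
open scoped MatrixGroups

namespace Cfsg.Lib.SpecSympEight

open FormNormal

universe u

variable {F : Type u} [Field F] [Fintype F]

/-- A nondegenerate space of given dimension and type with an isometry of given order and given fixed space. -/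
structure Blk (V : Type u) [AddCommGroup V] [Module F V] [FiniteDimensional F V] (dim : ℕ) (k : ℕ) (n fx : ℕ) where
  Q : QuadraticForm F V
  nd : (polarBilin Q).Nondegenerate
  D : Decomp Q (⊤ : Submodule F V)
  T : Module.End F V
  iso : ∀ v, Q (T v) = Q v
  hdim : Module.finrank F V = dim
  hk : Module.finrank F D.K = k
  ord : orderOf T = n
  fix : Module.finrank F (LinearMap.ker (T - 1)) = fx

variable {V W : Type u} [AddCommGroup V] [Module F V] [FiniteDimensional F V]
  [AddCommGroup W] [Module F W] [FiniteDimensional F W]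

theorem orderOf_prodMap (S : Module.End F V) (R : Module.End F W) :
    orderOf (LinearMap.prodMap S R : Module.End F (V × W)) = Nat.lcm (orderOf S) (orderOf R) := by
  rw [← Prod.orderOf_mk]
  let φ : Module.End F V × Module.End F W →* Module.End F (V × W) :=
    { toFun := fun x => LinearMap.prodMap x.1 x.2
      map_one' := LinearMap.ext fun x => by simp
      map_mul' := fun x y => LinearMap.ext fun z => by simp }
  refine orderOf_injective φ (fun x y h => ?_) (S, R)
  refine Prod.ext (LinearMap.ext fun v => ?_) (LinearMap.ext fun w => ?_)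
  · exact congrArg Prod.fst (LinearMap.congr_fun h (v, 0))
  · exact congrArg Prod.snd (LinearMap.congr_fun h (0, w))

theorem finrank_ker_prodMap (S : Module.End F V) (R : Module.End F W) :
    Module.finrank F (LinearMap.ker ((LinearMap.prodMap S R : Module.End F (V × W)) - 1)) =
      Module.finrank F (LinearMap.ker (S - 1)) + Module.finrank F (LinearMap.ker (R - 1)) := by
  rw [← Module.finrank_prod]
  refine LinearEquiv.finrank_eq
    { toFun := fun x => (⟨x.1.1, LinearMap.mem_ker.2 (congrArg Prod.fst (LinearMap.mem_ker.1 x.2))⟩,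
        ⟨x.1.2, LinearMap.mem_ker.2 (congrArg Prod.snd (LinearMap.mem_ker.1 x.2))⟩)
      invFun := fun x => ⟨(x.1.1, x.2.1), LinearMap.mem_ker.2 (Prod.ext (LinearMap.mem_ker.1 x.1.2) (LinearMap.mem_ker.1 x.2.2))⟩
      left_inv := fun _ => rfl
      right_inv := fun _ => rfl
      map_add' := fun _ _ => rfl
      map_smul' := fun _ _ => rfl }

/-- The orthogonal sum of two blocks. -/
theorem Blk.sum {d e k l n m a b : ℕ} (A : Blk (F := F) V d k n a) (B : Blk (F := F) W e l m b)
    (hk : k = 0 ∨ k = 2) (hl : l = 0 ∨ l = 2) :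
    ∃ C : Blk (F := F) (V × W) (d + e) (if k = l then 0 else 2) (Nat.lcm n m) (a + b),
      C.T = LinearMap.prodMap A.T B.T := by
  classical
  obtain ⟨U, hU⟩ : ∃ U : Decomp (A.Q.prod B.Q) (⊤ : Submodule F (V × W)),
      Module.finrank F U.K = if k = l then 0 else 2 := by
    by_cases h : k = 0 ∨ l = 0
    · obtain ⟨U, -, hU⟩ := OrthGlue.exists_union A.D B.D (by rw [A.hk, B.hk]; exact h)
      refine ⟨U, ?_⟩
      rw [hU, A.hk, B.hk]
      rcases hk with rfl | rfl <;> rcases hl with rfl | rfl <;> first | rfl | omega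
    · push Not at h
      obtain ⟨U⟩ := exists_decomp (A.Q.prod B.Q) _ ⊤ rfl (nd_top _ (OrthGlue.prod_nondegenerate A.nd B.nd))
      have h1 := hk.resolve_left h.1
      have h2 := hl.resolve_left h.2
      refine ⟨U, ?_⟩
      rw [OrthGlue.plus_of_two_planes A.D B.D A.nd B.nd (by rw [A.hk, h1]) (by rw [B.hk, h2]) U, h1, h2]
      rfl
  exact ⟨⟨A.Q.prod B.Q, OrthGlue.prod_nondegenerate A.nd B.nd, U, LinearMap.prodMap A.T B.T,
    fun v => by simp [QuadraticMap.prod_apply, A.iso, B.iso],
    by rw [Module.finrank_prod, A.hdim, B.hdim], hU, by rw [orderOf_prodMap, A.ord, B.ord],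
    by rw [finrank_ker_prodMap, A.fix, B.fix]⟩, rfl⟩

/-- A geometric sum on a summand. -/
theorem geom_prodMap (S : Module.End F V) (R : Module.End F W) (n : ℕ) (w : W) :
    (∑ i ∈ Finset.range n, (LinearMap.prodMap S R : Module.End F (V × W)) ^ i) (0, w) =
      (0, (∑ i ∈ Finset.range n, R ^ i) w) := by
  simp only [LinearMap.sum_apply]
  induction n with
  | zero => simp [Prod.ext_iff]
  | succ n ih =>
    rw [Finset.sum_range_succ, ih, Finset.sum_range_succ]
    have : ∀ i, ((LinearMap.prodMap S R : Module.End F (V × W)) ^ i) (0, w) = (0, (R ^ i) w) := by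
      intro i
      induction i with
      | zero => rfl
      | succ i ih' => rw [pow_succ', Module.End.mul_apply, ih', pow_succ', Module.End.mul_apply]; simp
    rw [this]
    simp

theorem det_two {K : Type*} [Field K] (s : SL(2, K)) (v : Fin 2 → K) (k : ℕ)
    (h : ((s ^ k : SL(2, K)) : Matrix (Fin 2) (Fin 2) K).mulVec v = v) (hv : v ≠ 0) :
    ((s ^ k : SL(2, K)) : Matrix (Fin 2) (Fin 2) K).trace = 2 := by
  set M := ((s ^ k : SL(2, K)) : Matrix (Fin 2) (Fin 2) K)
  have h0 : (M - 1).det = 0 := Matrix.exists_mulVec_eq_zero_iff.1 ⟨v, hv, by rw [Matrix.sub_mulVec, h, Matrix.one_mulVec, sub_self]⟩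
  have h1 : M.det = 1 := (s ^ k).2
  rw [Matrix.det_fin_two] at h0 h1
  simp [Matrix.sub_apply, Matrix.one_apply] at h0
  rw [Matrix.trace_fin_two]
  linear_combination h1 - h0

variable [CharP F 2]

/-- The tori. -/
theorem exists_torus (a : ℕ) (ha : 1 ≤ a) (minus : Bool) {N : ℕ}
    (hN : N = if minus then Fintype.card F ^ a + 1 else Fintype.card F ^ a - 1) :
    ∃ fx, Even fx ∧ Nonempty (Blk (F := F) (Fin (2 * a) → F) (2 * a) (if minus then 2 else 0) N fx) := by
  classical
  haveI : Fact (Nat.Prime 2) := ⟨Nat.prime_two⟩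
  obtain ⟨⟨f, hf⟩, -, hqf⟩ := FiniteField.card F 2
  change Fintype.card F = 2 ^ f at hqf
  have hev : 2 ∣ Fintype.card F ^ a := (hqf ▸ dvd_pow_self 2 (by omega)).trans (dvd_pow_self _ (by omega))
  have hq1 : 2 ≤ Fintype.card F ^ a := Nat.le_of_dvd (pow_pos Fintype.card_pos a) hev
  by_cases hN1 : N = 1
  · obtain ⟨DP, -, hDK, hnd⟩ := OrthGlue.exists_plus_space F a
    let e : (Fin (2 * a) → F) ≃ₗ[F] (Fin a ⊕ Fin a → F) :=
      LinearEquiv.ofFinrankEq _ _ (by simp; omega)
    have hm : minus = false := by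
      cases minus
      · rfl
      · simp at hN; omega
    subst hm
    let Q : QuadraticForm F (Fin (2 * a) → F) := (HypQuad.plusForm a F).comp e.toLinearMap
    have hp : ∀ x y, polar (⇑Q) x y = polar (⇑(HypQuad.plusForm a F)) (e x) (e y) := fun x y => by
      simp [polar, Q]
    have h1 : ∀ x, (∀ y, polar (⇑Q) x y = 0) → x = 0 := fun x h => e.injective (by
      rw [map_zero]
      exact hnd.1 _ fun y => by
        have := h (e.symm y); rw [hp, e.apply_symm_apply] at this; exact this)
    have hQnd : (polarBilin Q).Nondegenerate := ⟨h1, fun x hx => h1 x fun y => by rw [polar_comm]; exact hx y⟩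
    obtain ⟨D⟩ := exists_decomp Q _ ⊤ rfl (nd_top Q hQnd)
    have hK : Module.finrank F D.K = 0 := by
      have hW : Module.finrank F (Fin (2 * a) → F) = 2 * a := by simp
      let L : Submodule F (Fin (2 * a) → F) := (span F (Set.range DP.e)).map e.symm.toLinearMap
      have hLs : ∀ w ∈ L, Q w = 0 := by
        rintro _ ⟨w, hw, rfl⟩
        simp only [Q, QuadraticMap.comp_apply, LinearEquiv.coe_coe, e.apply_symm_apply]
        exact DP.span_e_singular w hw
      have hLd : Module.finrank F L = DP.m := by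
        rw [show L = _ from rfl, LinearEquiv.finrank_map_eq, finrank_span_eq_card DP.e_indep, Fintype.card_fin]
      have h1 := DP.dim
      rw [finrank_top, hDK, Module.finrank_fintype_fun_eq_card] at h1
      simp at h1
      have h2 := index_eq hQnd D L hLs (half_max hQnd L hLs (by rw [hW, hLd]; omega))
      have h3 := D.dim
      rw [finrank_top, hW, h2, hLd] at h3
      omega
    exact ⟨2 * a, ⟨a, by ring⟩, ⟨⟨Q, hQnd, D, 1, fun v => rfl, by simp, hK, by rw [orderOf_one, hN1], by
      rw [sub_self, LinearMap.ker_zero, finrank_top]; simp⟩⟩⟩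
  haveI : NeZero a := ⟨by omega⟩
  let K := FiniteField.Extension F 2 a
  have hcK : Nat.card K = Fintype.card F ^ a := by rw [FiniteField.natCard_extension, Nat.card_eq_fintype_card]
  haveI : Finite K := Nat.finite_of_card_ne_zero (by rw [hcK]; exact pow_ne_zero _ Fintype.card_ne_zero)
  haveI := Fintype.ofFinite K
  rw [Nat.card_eq_fintype_card] at hcK
  haveI : CharP K 2 := charP_of_injective_algebraMap (algebraMap F K).injective 2
  obtain ⟨s, hs⟩ : ∃ s : SL(2, K), orderOf s = N := by
    cases minus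
    · obtain ⟨b, hb⟩ := GLTwo.exists_orderOf_sub_one (F := K)
      exact ⟨b, by rw [hb, hcK, hN]; rfl⟩
    · obtain ⟨b, hb⟩ := GLTwo.exists_orderOf_add_one (F := K)
      exact ⟨b, by rw [hb, hcK, hN]; rfl⟩
  have hNodd : Odd N := by
    rw [Nat.odd_iff]
    cases minus <;> simp at hN <;> omega
  have hfree : ∀ k, ¬ N ∣ k → ∀ v, ((s ^ k : SL(2, K)) : Matrix (Fin 2) (Fin 2) K).mulVec v = v → v = 0 := by
    intro k hk v hv
    by_contra hv0
    have htr := det_two s v k hv hv0
    rw [show (2 : K) = 0 from CharTwo.two_eq_zero] at htr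
    refine hk (hs ▸ orderOf_dvd_of_pow_eq_one ?_)
    have hCH := Matrix.aeval_self_charpoly ((s ^ k : SL(2, K)) : Matrix (Fin 2) (Fin 2) K)
    rw [Matrix.charpoly_fin_two, (s ^ k).2, htr] at hCH
    have hsq : s ^ (k * 2) = 1 := by
      refine Subtype.ext ?_
      rw [pow_mul, Matrix.SpecialLinearGroup.coe_pow (s ^ k), Matrix.SpecialLinearGroup.coe_one]
      simp only [map_add, map_sub, map_mul, map_pow, Polynomial.aeval_X, Polynomial.aeval_C, map_zero, zero_mul,
        sub_zero, map_one] at hCH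
      rw [eq_neg_of_add_eq_zero_left hCH]
      ext i j
      rw [Matrix.neg_apply, CharTwo.neg_eq]
    rw [← hs] at hNodd
    exact orderOf_dvd_iff_pow_eq_one.1 ((Nat.Coprime.dvd_of_dvd_mul_right (Nat.coprime_two_right.2 hNodd))
      (orderOf_dvd_of_pow_eq_one hsq))
  let act : SL(2, K) →* Module.End F (Fin 2 → K) :=
    { toFun := fun g => ((Matrix.toLin' (g : Matrix (Fin 2) (Fin 2) K)).restrictScalars F)
      map_one' := LinearMap.ext fun v => by simp
      map_mul' := fun g h => LinearMap.ext fun v => by simp }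
  let B : LinearMap.BilinMap F (Fin 2 → K) F :=
    LinearMap.mk₂ F (fun u v => Algebra.trace F K ((act s u) 0 * v 1 - (act s u) 1 * v 0))
      (fun u u' v => by simp only [map_add, Pi.add_apply, add_mul]; rw [← map_add]; congr 1; ring)
      (fun c u v => by simp only [map_smul, Pi.smul_apply, smul_mul_assoc, ← smul_sub, map_smul, smul_eq_mul])
      (fun u v v' => by simp only [Pi.add_apply, mul_add]; rw [← map_add]; congr 1; ring)
      (fun c u v => by simp only [Pi.smul_apply, mul_smul_comm, ← smul_sub, map_smul, smul_eq_mul])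
  let e : (Fin 2 → K) ≃ₗ[F] (Fin (2 * a) → F) := LinearEquiv.ofFinrankEq _ _ (by
    rw [Module.finrank_pi_fintype, Module.finrank_fintype_fun_eq_card]
    simp [show Module.finrank F K = a from FiniteField.finrank_extension F 2 a])
  let Q : QuadraticForm F (Fin (2 * a) → F) := (LinearMap.BilinMap.toQuadraticMap B).comp e.symm.toLinearMap
  have hQ : ∀ v, Q (e v) = B v v := fun v => by simp [Q]
  have hact : ∀ v, act s v = (s : Matrix (Fin 2) (Fin 2) K).mulVec v := fun v => Matrix.toLin'_apply _ v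
  have hdet : ∀ v, B (act s v) (act s v) = B v v := fun v => by
    simp only [B, LinearMap.mk₂_apply]
    refine congrArg (Algebra.trace F K) ?_
    have h1 : (s : Matrix (Fin 2) (Fin 2) K) 0 0 * (s : Matrix (Fin 2) (Fin 2) K) 1 1 -
        (s : Matrix (Fin 2) (Fin 2) K) 0 1 * (s : Matrix (Fin 2) (Fin 2) K) 1 0 = 1 := by
      rw [← Matrix.det_fin_two]; exact s.2
    rw [hact, hact]
    simp only [Matrix.mulVec, dotProduct, Fin.sum_univ_two]
    linear_combination ((((s : Matrix (Fin 2) (Fin 2) K) 0 0 * v 0 + (s : Matrix (Fin 2) (Fin 2) K) 0 1 * v 1) * v 1 -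
      ((s : Matrix (Fin 2) (Fin 2) K) 1 0 * v 0 + (s : Matrix (Fin 2) (Fin 2) K) 1 1 * v 1) * v 0)) * h1
  have hnd0 : ∀ u, (∀ v, B u v + B v u = 0) → u = 0 := by
    intro u hu
    set M := (s : Matrix (Fin 2) (Fin 2) K) with hM
    have key : ∀ v : Fin 2 → K, (M.mulVec u 0 * v 1 - M.mulVec u 1 * v 0) + (M.mulVec v 0 * u 1 - M.mulVec v 1 * u 0) =
        ((M.mulVec u 0 + (M 1 1 * u 0 - M 0 1 * u 1)) * v 1 - (M.mulVec u 1 + (M 0 0 * u 1 - M 1 0 * u 0)) * v 0) +
          2 * ((M 0 0 * u 1 - M 1 0 * u 0) * v 0 - (M 1 1 * u 0 - M 0 1 * u 1) * v 1) := fun v => by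
      simp only [Matrix.mulVec, dotProduct, Fin.sum_univ_two]
      ring
    have hw : ∀ (c : K) (v : Fin 2 → K), Algebra.trace F K (c *
        ((M.mulVec u 0 + (M 1 1 * u 0 - M 0 1 * u 1)) * v 1 - (M.mulVec u 1 + (M 0 0 * u 1 - M 1 0 * u 0)) * v 0)) = 0 :=
      fun c v => by
      have h := hu (c • v)
      simp only [B, LinearMap.mk₂_apply, hact, ← map_add] at h
      rw [key, show (2 : K) = 0 from CharTwo.two_eq_zero, zero_mul, add_zero] at h
      rw [← h]
      simp only [Pi.smul_apply, smul_eq_mul]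
      congr 1
      ring
    have hz : ∀ v : Fin 2 → K,
        (M.mulVec u 0 + (M 1 1 * u 0 - M 0 1 * u 1)) * v 1 - (M.mulVec u 1 + (M 0 0 * u 1 - M 1 0 * u 0)) * v 0 = 0 :=
      fun v => (traceForm_nondegenerate F K).1 _ fun c => by
        rw [Algebra.traceForm_apply, mul_comm]; exact hw c v
    have e0 := hz ![0, 1]
    have e1 := hz ![1, 0]
    simp [Matrix.mulVec, dotProduct, Fin.sum_univ_two] at e0 e1
    have htne : M 0 0 + M 1 1 ≠ 0 := fun ht => by
      by_cases hex : ∃ v : Fin 2 → K, v ≠ 0 ∧ M.mulVec v = v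
      · obtain ⟨v, hv0, hv⟩ := hex
        exact hv0 (hfree 1 (fun h => hN1 (Nat.dvd_one.1 h)) v (by rwa [pow_one]))
      · refine hex ?_
        have h1 : (M - 1).det = 0 := by
          have hd : M.det = 1 := s.2
          rw [Matrix.det_fin_two] at hd ⊢
          simp [Matrix.sub_apply, Matrix.one_apply]
          linear_combination hd - ht + (CharTwo.two_eq_zero : (2 : K) = 0)
        obtain ⟨v, hv0, hv⟩ := Matrix.exists_mulVec_eq_zero_iff.2 h1
        exact ⟨v, hv0, by rwa [Matrix.sub_mulVec, Matrix.one_mulVec, sub_eq_zero] at hv⟩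
    have u0 : u 0 = 0 := (mul_eq_zero.1 (show (M 0 0 + M 1 1) * u 0 = 0 by linear_combination e0)).resolve_left htne
    have u1 : u 1 = 0 := (mul_eq_zero.1 (show (M 0 0 + M 1 1) * u 1 = 0 by linear_combination -e1)).resolve_left htne
    funext i
    fin_cases i
    exacts [u0, u1]
  have hp : ∀ x y, polar (⇑Q) (e x) (e y) = B x y + B y x := fun x y => by
    rw [polar, ← map_add, hQ, hQ, hQ]
    simp only [map_add, LinearMap.add_apply]
    ring
  have hnd1 : ∀ x, (∀ y, polar (⇑Q) x y = 0) → x = 0 := fun x h => by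
    obtain ⟨x, rfl⟩ := e.surjective x
    rw [hnd0 x fun y => by rw [← hp]; exact h _, map_zero]
  have hQnd : (polarBilin Q).Nondegenerate := ⟨hnd1, fun x hx => hnd1 x fun y => by rw [polar_comm]; exact hx y⟩
  let φ : SL(2, K) →* Module.End F (Fin (2 * a) → F) := e.conjRingEquiv.toMonoidHom.comp act
  have hφ : ∀ g v, φ g (e v) = e ((g : Matrix (Fin 2) (Fin 2) K).mulVec v) := fun g v => by
    show e (act g (e.symm (e v))) = _
    rw [e.symm_apply_apply]
    exact congrArg e (Matrix.toLin'_apply _ v)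
  set T := φ s with hT
  have hTk : ∀ k, (∀ v, (T ^ k) v = v) → N ∣ k := fun k h => by
    by_contra hk
    have h1 := h (e (![1, 0] : Fin 2 → K))
    rw [hT, ← map_pow, hφ] at h1
    have := congrFun (hfree k hk _ (e.injective h1)) 0
    simp at this
  have hTo : orderOf T = N := Nat.dvd_antisymm
    (hs ▸ orderOf_map_dvd φ s) (hTk _ fun v => by rw [pow_orderOf_eq_one]; rfl)
  have hTfree : ∀ k, ¬ N ∣ k → ∀ v, (T ^ k) v = v → v = 0 := fun k hk v hv => by
    obtain ⟨v, rfl⟩ := e.surjective v
    rw [hT, ← map_pow, hφ] at hv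
    rw [hfree k hk v (e.injective hv), map_zero]
  have hiso : ∀ v, Q (T v) = Q v := fun v => by
    obtain ⟨v, rfl⟩ := e.surjective v
    rw [hT, hφ, hQ, hQ, ← hact, hdet]
  obtain ⟨D⟩ := exists_decomp Q _ ⊤ rfl (nd_top Q hQnd)
  obtain ⟨r, hr, hrN⟩ := Nat.exists_prime_and_dvd hN1
  haveI : Fact r.Prime := ⟨hr⟩
  have hr2 : r ≠ 2 := fun h => by
    rw [h] at hrN
    exact (Nat.not_even_iff_odd.2 hNodd) (even_iff_two_dvd.2 hrN)
  have hN0 : 0 < N := hNodd.pos
  have hh : ¬ N ∣ N / r := fun h =>
    absurd (Nat.le_of_dvd (Nat.div_pos (Nat.le_of_dvd hN0 hrN) hr.pos) h) (not_le.2 (Nat.div_lt_self hN0 hr.one_lt))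
  have hq : ((Fintype.card F : ℕ) : ZMod r) ≠ 0 := fun h => by
    rw [ZMod.natCast_eq_zero_iff, hqf] at h
    exact hr2 ((Nat.prime_dvd_prime_iff_eq hr Nat.prime_two).1 (hr.dvd_of_dvd_pow h))
  have hsign := OrthCount.free_sign (r := r) hQnd D (w := a) (by simp) hq (T ^ (N / r))
    (fun v => by
      induction (N / r) with
      | zero => rfl
      | succ k ih => rw [pow_succ', Module.End.mul_apply, hiso, ih])
    (by rw [← pow_mul, Nat.div_mul_cancel hrN, ← hTo, pow_orderOf_eq_one])
    (fun v hv => hTfree _ hh v hv)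
  have hqa : ((Fintype.card F : ℕ) : ZMod r) ^ a = if minus then -1 else 1 := by
    cases minus
    · simp only [Bool.false_eq_true, if_false] at hN ⊢
      have h0 : ((N : ℕ) : ZMod r) = 0 := (ZMod.natCast_eq_zero_iff _ _).2 hrN
      rw [hN, Nat.cast_sub (by omega), Nat.cast_pow, Nat.cast_one, sub_eq_zero] at h0
      exact h0
    · simp only [if_true] at hN ⊢
      have h0 : ((N : ℕ) : ZMod r) = 0 := (ZMod.natCast_eq_zero_iff _ _).2 hrN
      rw [hN, Nat.cast_add, Nat.cast_pow, Nat.cast_one] at h0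
      exact eq_neg_of_add_eq_zero_left h0
  have hne : (-1 : ZMod r) ≠ 1 := fun h => by
    have h2 : ((2 : ℕ) : ZMod r) = 0 := by push_cast; linear_combination -h
    rw [ZMod.natCast_eq_zero_iff] at h2
    exact hr2 ((Nat.prime_dvd_prime_iff_eq hr Nat.prime_two).1 h2)
  have hK : Module.finrank F D.K = if minus then 2 else 0 := by
    have h1 := D.dim
    have h2 := D.small
    rw [finrank_top] at h1
    simp at h1
    rw [hqa] at hsign
    cases minus
    · by_contra hcon
      simp only [Bool.false_eq_true, if_false] at hcon hsign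
      rw [if_neg hcon] at hsign
      exact hne hsign.symm
    · by_contra hcon
      have h0 : Module.finrank F D.K = 0 := by
        simp only [if_true] at hcon
        omega
      simp only [if_true] at hsign
      rw [if_pos h0] at hsign
      exact hne hsign
  refine ⟨0, Even.zero, ⟨⟨Q, hQnd, D, T, hiso, by simp, hK, hTo, ?_⟩⟩⟩
  rw [Submodule.finrank_eq_zero, LinearMap.ker_eq_bot']
  intro v hv
  refine hTfree 1 (fun h => hN1 (Nat.dvd_one.1 h)) v ?_
  rw [pow_one]
  exact sub_eq_zero.1 hv

end Cfsg.Lib.SpecSympEight
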