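import Cfsg.Agent.SpecSympEight.Upper
import Cfsg.Agent.Known.SympOrders.Spectrum

/-! Elements of `PSp (8, q)`, `q` even, of maximal orders. -/

set_option autoImplicit false
set_option linter.style.haveILetI false
set_option linter.unusedSectionVars false

open Matrix
open Cfsg

namespace Cfsg.Lib.SpecSympEight

variable {F : Type*} [Field F] [Fintype F] [CharP F 2]

theorem orderOf_proj (t : symplecticGroup (Fin 4) F) :
    orderOf (QuotientGroup.mk' (Subgroup.center (symplecticGroup (Fin 4) F)) t) = orderOf t := by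
  haveI : Fact (Nat.Prime 2) := ⟨Nat.prime_two⟩
  refine orderOf_eq_orderOf_iff.2 fun e => ?_
  rw [← map_pow, QuotientGroup.mk'_apply, QuotientGroup.eq_one_iff]
  refine ⟨fun hz => Fusion.PSp.eq_one_of_mem_center (p := 2) (by norm_num) hz (k := 1) ?_, fun h => h ▸ one_mem _⟩
  rw [pow_one]
  exact SympOrders.center_sq (by norm_num) hz

theorem orderOf_blockSp {a b : ℕ} (t : symplecticGroup (Fin a) F) (u : symplecticGroup (Fin b) F) :
    orderOf (PrimeOrbitSymp.blockSp a b (t, u)) = Nat.lcm (orderOf t) (orderOf u) := by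
  rw [← Prod.orderOf_mk]
  exact orderOf_injective _ (PrimeOrbitSymp.blockSp_injective a b) (t, u)

theorem map_cast {m : ℕ} (A : Matrix (Fin m ⊕ Fin m) (Fin m ⊕ Fin m) (ZMod 2)) (k : ℕ) :
    (A.map (ZMod.castHom (dvd_refl 2) F)) ^ k = (A ^ k).map (ZMod.castHom (dvd_refl 2) F) :=
  (map_pow (RingHom.mapMatrix (ZMod.castHom (dvd_refl 2) F)) A k).symm

/-- A unipotent element of order `2 ^ k` defined over the prime field. -/
theorem exists_unipotent {m k : ℕ} (A : Matrix (Fin m ⊕ Fin m) (Fin m ⊕ Fin m) (ZMod 2))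
    (hA : A * Matrix.J (Fin m) (ZMod 2) * Aᵀ = Matrix.J (Fin m) (ZMod 2)) (h1 : A ^ 2 ^ (k + 1) = 1)
    (h2 : A ^ 2 ^ k ≠ 1) : ∃ u : symplecticGroup (Fin m) F, orderOf u = 2 ^ (k + 1) := by
  set φ := ZMod.castHom (dvd_refl 2) F
  have hφ : Function.Injective φ := φ.injective
  have hJ : (Matrix.J (Fin m) (ZMod 2)).map φ = Matrix.J (Fin m) F := by
    ext (i | i) (j | j) <;> simp [Matrix.J, Matrix.one_apply, CharTwo.neg_eq]
  haveI : Fact (Nat.Prime 2) := ⟨Nat.prime_two⟩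
  refine ⟨⟨A.map φ, ?_⟩, orderOf_eq_prime_pow (fun e => h2 (Matrix.map_injective hφ ?_)) (Subtype.ext ?_)⟩
  · rw [SymplecticGroup.mem_iff, ← hJ, ← Matrix.transpose_map, ← Matrix.map_mul, ← Matrix.map_mul, hA]
  · have e' := congrArg Subtype.val e
    rw [SubmonoidClass.coe_pow, Submonoid.coe_one, map_cast] at e'
    exact e'.trans (Matrix.map_one _ φ.map_zero φ.map_one).symm
  · rw [SubmonoidClass.coe_pow, Submonoid.coe_one, map_cast, h1, Matrix.map_one _ φ.map_zero φ.map_one]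

theorem exists_two : ∃ u : symplecticGroup (Fin 1) F, orderOf u = 2 :=
  exists_unipotent (k := 0) (fromBlocks 1 1 0 1) (by decide) (by decide) (by decide)

theorem exists_four : ∃ u : symplecticGroup (Fin 2) F, orderOf u = 4 :=
  exists_unipotent (k := 1) (fromBlocks !![1, 1; 0, 1] !![0, 1; 0, 1] 0 !![1, 0; 1, 1]) (by decide) (by decide) (by decide)

theorem exists_eight : ∃ u : symplecticGroup (Fin 3) F, orderOf u = 8 :=
  exists_unipotent (k := 2)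
    (fromBlocks !![1, 1, 0; 0, 1, 1; 0, 0, 1] !![0, 0, 0; 0, 0, 1; 0, 0, 1] 0 !![1, 0, 0; 1, 1, 0; 1, 1, 1])
    (by decide) (by decide +kernel) (by decide +kernel)

theorem coprime_adjacent {q : ℕ} (hq2 : 2 ∣ q) {a : ℕ} (ha : 1 ≤ a) {x y : ℕ} (hx : x = q ^ a - 1) (hy : y = q ^ a + 1)
    (hq : 1 ≤ q) : Nat.Coprime x y := by
  refine Nat.coprime_of_dvd fun p hp h1 h2 => ?_
  have hev : 2 ∣ q ^ a := hq2.trans (dvd_pow_self q (by omega))
  have := Nat.one_le_pow a q hq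
  have h3 := Nat.dvd_sub h2 h1
  rw [show y - x = 2 by omega] at h3
  have := (Nat.prime_dvd_prime_iff_eq hp Nat.prime_two).1 h3
  subst this
  omega

theorem coprime_cube {q : ℕ} (hq2 : 2 ∣ q) (hq : 1 ≤ q) :
    Nat.Coprime (q ^ 3 + 1) (q - 1) ∧ Nat.Coprime (q ^ 3 - 1) (q + 1) := by
  have c := coprime_adjacent hq2 (a := 3) (by norm_num) rfl rfl hq
  have h1 : q + 1 ∣ q ^ 3 + 1 := by
    have := Odd.nat_add_dvd_pow_add_pow q 1 (show Odd 3 by decide)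
    simpa using this
  have h2 : q - 1 ∣ q ^ 3 - 1 := by simpa using Nat.sub_dvd_pow_sub_pow q 1 3
  exact ⟨(c.coprime_dvd_left h2).symm, c.coprime_dvd_right h1⟩

theorem coprime_square {q : ℕ} (hq2 : 2 ∣ q) (hq : 1 ≤ q) :
    Nat.Coprime (q ^ 2 + 1) (q + 1) ∧ Nat.Coprime (q ^ 2 + 1) (q - 1) ∧ Nat.Coprime (q - 1) (q + 1) := by
  have c := coprime_adjacent hq2 (a := 2) (by norm_num) rfl rfl hq
  obtain ⟨-, -, h1, h2⟩ := sq_dvd_four hq
  exact ⟨(c.coprime_dvd_left h2).symm, (c.coprime_dvd_left h1).symm,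
    coprime_adjacent hq2 (a := 1) le_rfl (by rw [pow_one]) (by rw [pow_one]) hq⟩

theorem coprime_two_pow {q : ℕ} (hq2 : 2 ∣ q) (hq : 1 ≤ q) {a : ℕ} (ha : 1 ≤ a) {n : ℕ}
    (hn : n = q ^ a + 1 ∨ n = q ^ a - 1) (k : ℕ) : Nat.Coprime n (2 ^ k) := by
  refine Nat.Coprime.pow_right k ((Nat.coprime_two_right).2 (Nat.odd_iff.2 ?_))
  have hev : 2 ∣ q ^ a := hq2.trans (dvd_pow_self q (by omega))
  have := Nat.one_le_pow a q hq
  omega

theorem q_even : 2 ∣ Fintype.card F ∧ 1 ≤ Fintype.card F := by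
  obtain ⟨⟨f, hf⟩, -, hqf⟩ := FiniteField.card F 2
  exact ⟨hqf ▸ dvd_pow_self 2 (by have := hf; simp; omega), Fintype.card_pos⟩

/-- All maximal orders occur in `Sp (8, q)`. -/
theorem sp_exists {d : ℕ} (hd : Spec (Fintype.card F) d) : ∃ x : symplecticGroup (Fin 4) F, orderOf x = d := by
  obtain ⟨hq2, hq⟩ := q_even (F := F)
  set q := Fintype.card F with hqdef
  obtain ⟨⟨p4, hp4⟩, ⟨m4, hm4⟩⟩ := SympOrders.exists_torus (F := F) (show 1 ≤ 4 by norm_num)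
  obtain ⟨⟨p3, hp3⟩, ⟨m3, hm3⟩⟩ := SympOrders.exists_torus (F := F) (show 1 ≤ 3 by norm_num)
  obtain ⟨⟨p2, hp2⟩, ⟨m2, hm2⟩⟩ := SympOrders.exists_torus (F := F) (show 1 ≤ 2 by norm_num)
  obtain ⟨⟨p1, hp1⟩, ⟨m1, hm1⟩⟩ := SympOrders.exists_torus (F := F) (le_refl 1)
  rw [pow_one] at hp1 hm1
  rw [← hqdef] at hp4 hm4 hp3 hm3 hp2 hm2 hp1 hm1
  obtain ⟨u2, hu2⟩ := exists_two (F := F)
  obtain ⟨u4, hu4⟩ := exists_four (F := F)
  obtain ⟨u8, hu8⟩ := exists_eight (F := F)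
  obtain ⟨c31, c32⟩ := coprime_cube hq2 hq
  obtain ⟨c21, c22, c11⟩ := coprime_square hq2 hq
  have two : ∀ {a n : ℕ}, 1 ≤ a → (n = q ^ a + 1 ∨ n = q ^ a - 1) → ∀ k, Nat.lcm n (2 ^ k) = n * 2 ^ k :=
    fun ha hn k => (coprime_two_pow hq2 hq ha hn k).lcm_eq_mul
  have b31 : ∀ (t : symplecticGroup (Fin 3) F) (u : symplecticGroup (Fin 1) F) (n m : ℕ), orderOf t = n → orderOf u = m →
      ∃ x : symplecticGroup (Fin 4) F, orderOf x = Nat.lcm n m :=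
    fun t u n m h1 h2 => ⟨PrimeOrbitSymp.blockSp 3 1 (t, u), by rw [← h1, ← h2]; exact orderOf_blockSp t u⟩
  have b22 : ∀ (t : symplecticGroup (Fin 2) F) (u : symplecticGroup (Fin 2) F) (n m : ℕ), orderOf t = n → orderOf u = m →
      ∃ x : symplecticGroup (Fin 4) F, orderOf x = Nat.lcm n m :=
    fun t u n m h1 h2 => ⟨PrimeOrbitSymp.blockSp 2 2 (t, u), by rw [← h1, ← h2]; exact orderOf_blockSp t u⟩
  have b211 : ∀ (t : symplecticGroup (Fin 2) F) (u : symplecticGroup (Fin 1) F) (n m : ℕ), orderOf t = n → orderOf u = m →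
      ∃ x : symplecticGroup (Fin 4) F, orderOf x = Nat.lcm (Nat.lcm n m) 2 :=
    fun t u n m h1 h2 => b31 (PrimeOrbitSymp.blockSp 2 1 (t, u)) u2 _ _ (by rw [← h1, ← h2]; exact orderOf_blockSp t u) hu2
  rcases hd with rfl | rfl | rfl | rfl | rfl | rfl | rfl | rfl | rfl | rfl | rfl | rfl
  · exact ⟨p4, hp4⟩
  · exact ⟨m4, hm4⟩
  · rw [← c31.lcm_eq_mul]; exact b31 p3 m1 _ _ hp3 hm1
  · rw [← c32.lcm_eq_mul]; exact b31 m3 p1 _ _ hm3 hp1
  · obtain ⟨x, hx⟩ := b31 p3 u2 _ _ hp3 hu2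
    exact ⟨x, by rw [hx, ← pow_one 2, two (a := 3) (by norm_num) (Or.inl rfl), mul_comm]⟩
  · obtain ⟨x, hx⟩ := b31 m3 u2 _ _ hm3 hu2
    exact ⟨x, by rw [hx, ← pow_one 2, two (a := 3) (by norm_num) (Or.inr rfl), mul_comm]⟩
  · obtain ⟨x, hx⟩ := b211 p2 p1 _ _ hp2 hp1
    refine ⟨x, ?_⟩
    rw [hx, c21.lcm_eq_mul, Nat.Coprime.lcm_eq_mul, mul_comm]
    have h1 := coprime_two_pow hq2 hq (a := 2) (by norm_num) (n := q ^ 2 + 1) (Or.inl rfl) 1
    have h2 := coprime_two_pow hq2 hq (a := 1) le_rfl (n := q + 1) (Or.inl (by rw [pow_one])) 1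
    exact Nat.Coprime.mul_left (by simpa using h1) (by simpa using h2)
  · obtain ⟨x, hx⟩ := b211 p2 m1 _ _ hp2 hm1
    refine ⟨x, ?_⟩
    rw [hx, c22.lcm_eq_mul, Nat.Coprime.lcm_eq_mul, mul_comm]
    have h1 := coprime_two_pow hq2 hq (a := 2) (by norm_num) (n := q ^ 2 + 1) (Or.inl rfl) 1
    have h2 := coprime_two_pow hq2 hq (a := 1) le_rfl (n := q - 1) (Or.inr (by rw [pow_one])) 1
    exact Nat.Coprime.mul_left (by simpa using h1) (by simpa using h2)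
  · obtain ⟨x, hx⟩ := b22 p2 u4 _ _ hp2 hu4
    exact ⟨x, by rw [hx, show 4 = 2 ^ 2 by norm_num, two (a := 2) (by norm_num) (Or.inl rfl), mul_comm]⟩
  · obtain ⟨x, hx⟩ := b22 m2 u4 _ _ hm2 hu4
    exact ⟨x, by rw [hx, show 4 = 2 ^ 2 by norm_num, two (a := 2) (by norm_num) (Or.inr rfl), mul_comm]⟩
  · obtain ⟨x, hx⟩ := b31 u8 p1 _ _ hu8 hp1
    exact ⟨x, by rw [hx, Nat.lcm_comm, show 8 = 2 ^ 3 by norm_num, two (a := 1) le_rfl (Or.inl (by rw [pow_one])), mul_comm]⟩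
  · obtain ⟨x, hx⟩ := b31 u8 m1 _ _ hu8 hm1
    exact ⟨x, by rw [hx, Nat.lcm_comm, show 8 = 2 ^ 3 by norm_num, two (a := 1) le_rfl (Or.inr (by rw [pow_one])), mul_comm]⟩

theorem psp_dvd (x : PSp 4 F) : ∃ d, Spec (Fintype.card F) d ∧ orderOf x ∣ d := by
  obtain ⟨g, rfl⟩ := QuotientGroup.mk'_surjective (Subgroup.center (symplecticGroup (Fin 4) F)) x
  obtain ⟨d, hd, h1, -⟩ := pow_eq_one (F := F) (ι := Fin 4 ⊕ Fin 4) (by simp) g.1 (Matrix.J (Fin 4) F)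
    (Matrix.isUnit_det_J (Fin 4) F) (SymplecticGroup.mem_iff'.1 g.2)
  exact ⟨d, hd, (orderOf_proj g).symm ▸ orderOf_dvd_of_pow_eq_one (Subtype.ext (by rw [SubmonoidClass.coe_pow, h1]; rfl))⟩

theorem psp_exists {d : ℕ} (hd : Spec (Fintype.card F) d) : ∃ x : PSp 4 F, orderOf x = d := by
  obtain ⟨x, hx⟩ := sp_exists hd
  exact ⟨_, (orderOf_proj x).trans hx⟩

end Cfsg.Lib.SpecSympEight
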