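import Mathlib

/-! Eigenvalue multisets of eight-dimensional symplectic elements in characteristic two. -/

set_option autoImplicit false
set_option linter.unusedSectionVars false

namespace Cfsg.Lib.SpecSympEight

/-- The maximal element orders. -/
def Spec (q d : ℕ) : Prop :=
  d = q ^ 4 + 1 ∨ d = q ^ 4 - 1 ∨ d = (q ^ 3 + 1) * (q - 1) ∨ d = (q ^ 3 - 1) * (q + 1) ∨
    d = 2 * (q ^ 3 + 1) ∨ d = 2 * (q ^ 3 - 1) ∨ d = 2 * ((q ^ 2 + 1) * (q + 1)) ∨ d = 2 * ((q ^ 2 + 1) * (q - 1)) ∨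
    d = 4 * (q ^ 2 + 1) ∨ d = 4 * (q ^ 2 - 1) ∨ d = 8 * (q + 1) ∨ d = 8 * (q - 1)

variable {K : Type*} [Field K]

/-- Closed under inversion and the Frobenius map. -/
structure Closed (q : ℕ) (R : Multiset K) : Prop where
  inv : R.map (·⁻¹) = R
  frob : R.map (fun x => x ^ q) = R

theorem closed_sub {q : ℕ} {S T : Multiset K} (hR : Closed q (S + T)) (hS : Closed q S) : Closed q T := by
  refine ⟨add_left_cancel (a := S) ?_, add_left_cancel (a := S) ?_⟩
  · conv_rhs => rw [← hR.inv, Multiset.map_add, hS.inv]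
  · conv_rhs => rw [← hR.frob, Multiset.map_add, hS.frob]

variable [DecidableEq K] [CharP K 2] {f q : ℕ}

theorem self_inv {x : K} (h0 : x ≠ 0) (h : x⁻¹ = x) : x = 1 := by
  have h1 : x * x = 1 := by nth_rw 1 [← h]; exact inv_mul_cancel₀ h0
  rcases mul_self_eq_one_iff.1 h1 with e | e
  exacts [e, e.trans (CharTwo.neg_eq 1)]

theorem pow_inj (hq : q = 2 ^ f) (j : ℕ) {x y : K} (h : x ^ q ^ j = y ^ q ^ j) : x = y := by
  subst hq
  rw [← pow_mul] at h
  exact iterateFrobenius_inj K 2 (f * j) h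

theorem count_inv {R : Multiset K} (hR : Closed q R) (x : K) : R.count x⁻¹ = R.count x := by
  conv_lhs => rw [← hR.inv]
  exact Multiset.count_map_eq_count' _ _ inv_injective x

theorem count_frob (hq : q = 2 ^ f) {R : Multiset K} (hR : Closed q R) (x : K) :
    ∀ j : ℕ, R.count (x ^ q ^ j) = R.count x
  | 0 => by rw [pow_zero, pow_one]
  | j + 1 => by
    rw [pow_succ, pow_mul]
    conv_lhs => rw [← hR.frob]
    rw [Multiset.count_map_eq_count' (fun x : K => x ^ q) _ (fun a b h => pow_inj hq 1 (by rw [pow_one]; exact h))]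
    exact count_frob hq hR x j

/-- The orbit of an eigenvalue. -/
theorem orbit (hq : q = 2 ^ f) {R : Multiset K} (hR : Closed q R) {x : K} (hx : x ∈ R) (hx1 : x ≠ 1) (hx0 : x ≠ 0) :
    ∃ a k : ℕ, ∃ S T : Multiset K, 1 ≤ a ∧ x ∈ S ∧ S.Nodup ∧ Multiset.card S = 2 * a ∧ (k = q ^ a + 1 ∨ k = q ^ a - 1) ∧
      (∀ z ∈ S, z ^ k = 1 ∧ z ≠ 1) ∧ R = R.count x • S + T ∧ Closed q T ∧ x ∉ T ∧ (∀ z ∈ S, R.count z = R.count x) := by
  have hq1 : 1 ≤ q := hq ▸ Nat.one_le_two_pow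
  have hmem : ∀ j, x ^ q ^ j ∈ R.toFinset := fun j => by
    rw [Multiset.mem_toFinset, ← Multiset.count_pos, count_frob hq hR]
    exact Multiset.count_pos.2 hx
  have hex : ∃ a, 1 ≤ a ∧ (x ^ q ^ a = x ∨ x ^ q ^ a = x⁻¹) := by
    obtain ⟨i, -, j, -, hij, he⟩ := Finset.exists_ne_map_eq_of_card_lt_of_maps_to
      (s := Finset.range (R.toFinset.card + 1)) (t := R.toFinset) (by simp) (f := fun j => x ^ q ^ j) (fun j _ => hmem j)
    rcases lt_or_gt_of_ne hij with h | h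
    · refine ⟨j - i, by omega, Or.inl (pow_inj hq i ?_)⟩
      rw [← pow_mul, ← pow_add, Nat.sub_add_cancel h.le]
      exact he.symm
    · refine ⟨i - j, by omega, Or.inl (pow_inj hq j ?_)⟩
      rw [← pow_mul, ← pow_add, Nat.sub_add_cancel h.le]
      exact he
  classical
  set a := Nat.find hex with ha
  obtain ⟨ha1, hclose⟩ := Nat.find_spec hex
  rw [← ha] at ha1 hclose
  have hmin : ∀ i, 1 ≤ i → i < a → x ^ q ^ i ≠ x ∧ x ^ q ^ i ≠ x⁻¹ := fun i h1 h2 =>
    ⟨fun e => Nat.find_min hex h2 ⟨h1, Or.inl e⟩, fun e => Nat.find_min hex h2 ⟨h1, Or.inr e⟩⟩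
  have hne : ∀ i j, i < a → j < a → (x ^ q ^ i = x ^ q ^ j → i = j) ∧ x ^ q ^ i ≠ (x ^ q ^ j)⁻¹ := by
    intro i j hi hj
    rcases lt_trichotomy i j with h | rfl | h
    · obtain ⟨h1, h2⟩ := hmin (j - i) (by omega) (by omega)
      refine ⟨fun e => absurd (pow_inj hq i ?_) h1, fun e => h2 (pow_inj hq i ?_)⟩
      · rw [← pow_mul, ← pow_add, Nat.sub_add_cancel h.le]; exact e.symm
      · rw [← pow_mul, ← pow_add, Nat.sub_add_cancel h.le, inv_pow, e, inv_inv]
    · exact ⟨fun _ => rfl, fun e => hx1 (self_inv hx0 (pow_inj hq i (by rw [inv_pow]; exact e.symm)))⟩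
    · obtain ⟨h1, h2⟩ := hmin (i - j) (by omega) (by omega)
      refine ⟨fun e => absurd (pow_inj hq j ?_) h1, fun e => h2 (pow_inj hq j ?_)⟩
      · rw [← pow_mul, ← pow_add, Nat.sub_add_cancel h.le]; exact e
      · rw [← pow_mul, ← pow_add, Nat.sub_add_cancel h.le, inv_pow]; exact e
  set A : Multiset K := (Multiset.range a).map (fun j => x ^ q ^ j) with hA
  set S : Multiset K := A + A.map (·⁻¹) with hS
  have hAnd : A.Nodup := (Multiset.nodup_range a).map_on fun i hi j hj e =>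
    (hne i j (Multiset.mem_range.1 hi) (Multiset.mem_range.1 hj)).1 e
  have hSnd : S.Nodup := by
    refine Multiset.nodup_add.2 ⟨hAnd, hAnd.map inv_injective, ?_⟩
    rw [Multiset.disjoint_left]
    intro z hz hz'
    rw [hA, Multiset.mem_map] at hz
    obtain ⟨i, hi, rfl⟩ := hz
    obtain ⟨w, hw, hw'⟩ := Multiset.mem_map.1 hz'
    rw [hA, Multiset.mem_map] at hw
    obtain ⟨j, hj, rfl⟩ := hw
    exact (hne i j (Multiset.mem_range.1 hi) (Multiset.mem_range.1 hj)).2 hw'.symm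
  have hmemS : ∀ z, z ∈ S ↔ ∃ j, j < a ∧ (z = x ^ q ^ j ∨ z = (x ^ q ^ j)⁻¹) := fun z => by
    simp only [hS, hA, Multiset.mem_add, Multiset.mem_map, Multiset.map_map, Function.comp_apply, Multiset.mem_range]
    constructor
    · rintro (⟨j, hj, rfl⟩ | ⟨j, hj, rfl⟩)
      exacts [⟨j, hj, Or.inl rfl⟩, ⟨j, hj, Or.inr rfl⟩]
    · rintro ⟨j, hj, rfl | rfl⟩
      exacts [Or.inl ⟨j, hj, rfl⟩, Or.inr ⟨j, hj, rfl⟩]
  have hSinv : ∀ z ∈ S, z⁻¹ ∈ S := fun z hz => by
    obtain ⟨j, hj, rfl | rfl⟩ := (hmemS z).1 hz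
    exacts [(hmemS _).2 ⟨j, hj, Or.inr rfl⟩, (hmemS _).2 ⟨j, hj, Or.inl (inv_inv _)⟩]
  have hSfrob : ∀ z ∈ S, z ^ q ∈ S := fun z hz => by
    obtain ⟨j, hj, e⟩ := (hmemS z).1 hz
    have hnext : x ^ q ^ (j + 1) ∈ S := by
      rcases lt_or_eq_of_le (Nat.succ_le_of_lt hj) with h | h
      · exact (hmemS _).2 ⟨j + 1, h, Or.inl rfl⟩
      · refine (hmemS _).2 ⟨0, ha1, ?_⟩
        rw [show j + 1 = a from h, pow_zero, pow_one]
        exact hclose
    rcases e with rfl | rfl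
    · rwa [← pow_mul, ← pow_succ]
    · rw [inv_pow, ← pow_mul, ← pow_succ]; exact hSinv _ hnext
  have hmap : ∀ φ : K → K, Function.Injective φ → (∀ z ∈ S, φ z ∈ S) → S.map φ = S := fun φ hφ h =>
    Multiset.eq_of_le_of_card_le ((Multiset.le_iff_subset (hSnd.map hφ)).2 fun z hz => by
      obtain ⟨w, hw, rfl⟩ := Multiset.mem_map.1 hz; exact h w hw) (by rw [Multiset.card_map])
  have hScl : Closed q S := ⟨hmap _ inv_injective hSinv,
    hmap _ (fun a b h => pow_inj hq 1 (by rw [pow_one]; exact h)) hSfrob⟩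
  have hcnt : ∀ z ∈ S, R.count z = R.count x := fun z hz => by
    obtain ⟨j, -, rfl | rfl⟩ := (hmemS z).1 hz
    · exact count_frob hq hR x j
    · rw [count_inv hR, count_frob hq hR x j]
  have hle : R.count x • S ≤ R := Multiset.le_iff_count.2 fun z => by
    rw [Multiset.count_nsmul]
    by_cases hz : z ∈ S
    · rw [Multiset.count_eq_one_of_mem hSnd hz, mul_one, hcnt z hz]
    · rw [Multiset.count_eq_zero_of_notMem hz, mul_zero]; exact Nat.zero_le _
  obtain ⟨T, hT⟩ := Multiset.le_iff_exists_add.1 hle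
  have hxS : x ∈ S := (hmemS x).2 ⟨0, ha1, Or.inl (by rw [pow_zero, pow_one])⟩
  have hcl : Closed q (R.count x • S) := ⟨by rw [Multiset.map_nsmul, hScl.inv], by rw [Multiset.map_nsmul, hScl.frob]⟩
  obtain ⟨k, hk, hxk⟩ : ∃ k, (k = q ^ a + 1 ∨ k = q ^ a - 1) ∧ x ^ k = 1 := by
    rcases hclose with e | e
    · exact ⟨_, Or.inr rfl, mul_right_cancel₀ hx0 (by rw [← pow_succ, Nat.sub_add_cancel (Nat.one_le_pow _ _ hq1), one_mul, e])⟩
    · exact ⟨_, Or.inl rfl, by rw [pow_succ, e, inv_mul_cancel₀ hx0]⟩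
  refine ⟨a, k, S, T, ha1, hxS, hSnd, by simp [hS, hA, two_mul], hk, fun z hz => ?_, hT, closed_sub (hT ▸ hR) hcl, fun h => ?_, hcnt⟩
  · obtain ⟨j, -, rfl | rfl⟩ := (hmemS z).1 hz
    · exact ⟨by rw [← pow_mul, mul_comm, pow_mul, hxk, one_pow],
        fun e => hx1 (pow_inj hq j (by rw [e, one_pow]))⟩
    · refine ⟨by rw [inv_pow, ← pow_mul, mul_comm, pow_mul, hxk, one_pow, inv_one],
        fun e => hx1 (pow_inj hq j ?_)⟩
      rw [inv_eq_one] at e
      rw [e, one_pow]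
  · have := congrArg (Multiset.count x) hT
    rw [Multiset.count_add, Multiset.count_nsmul, Multiset.count_eq_one_of_mem hSnd hxS, mul_one] at this
    have := Multiset.count_pos.2 h
    omega

theorem sq_dvd_four (hq1 : 1 ≤ q) : q ^ 2 - 1 ∣ q ^ 4 - 1 ∧ q ^ 2 + 1 ∣ q ^ 4 - 1 ∧ q - 1 ∣ q ^ 2 - 1 ∧ q + 1 ∣ q ^ 2 - 1 := by
  obtain ⟨n, rfl⟩ := Nat.exists_eq_add_of_le hq1
  have h2 : (1 + n) ^ 2 - 1 = n * (n + 2) := by rw [show (1 + n) ^ 2 = n * (n + 2) + 1 by ring, Nat.add_sub_cancel]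
  have h4 : (1 + n) ^ 4 - 1 = n * (n + 2) * (n ^ 2 + 2 * n + 2) := by
    rw [show (1 + n) ^ 4 = n * (n + 2) * (n ^ 2 + 2 * n + 2) + 1 by ring, Nat.add_sub_cancel]
  refine ⟨⟨_, by rw [h2, h4]⟩, ⟨n * (n + 2), by rw [h4]; ring⟩, ⟨n + 2, by rw [h2, Nat.add_sub_cancel_left]⟩,
    ⟨n, by rw [h2]; ring⟩⟩

/-- Two-element multisets. -/
theorem card_two (hq : q = 2 ^ f) {R : Multiset K} (hR : Closed q R) (h0 : (0 : K) ∉ R)
    (hc : Multiset.card R ≤ 3) : ∃ k, (k = q + 1 ∨ k = q - 1) ∧ ∀ z ∈ R, z ^ k = 1 := by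
  by_cases h : ∀ z ∈ R, z = 1
  · exact ⟨q + 1, Or.inl rfl, fun z hz => by rw [h z hz, one_pow]⟩
  push Not at h
  obtain ⟨x, hx, hx1⟩ := h
  obtain ⟨a, k, S, T, ha, hxS, hnd, hcS, hk, hSk, hRT, hT, hxT, -⟩ := orbit hq hR hx hx1 (fun e => h0 (e ▸ hx))
  have hcard := congrArg Multiset.card hRT
  rw [Multiset.card_add, Multiset.card_nsmul, hcS] at hcard
  have hμ := Multiset.count_pos.2 hx
  have hmul : 2 * a ≤ R.count x * (2 * a) := Nat.le_mul_of_pos_left _ hμ
  have ha' : a = 1 := by omega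
  subst ha'
  rw [pow_one] at hk
  refine ⟨k, hk, fun z hz => ?_⟩
  rw [hRT, Multiset.mem_add] at hz
  rcases hz with hz | hz
  · exact (hSk z (Multiset.mem_of_mem_nsmul hz)).1
  · by_contra hz1
    have hz1' : z ≠ 1 := fun e => hz1 (by rw [e, one_pow])
    have hT0 : (0 : K) ∉ T := fun e => h0 (hRT ▸ Multiset.mem_add.2 (Or.inr e))
    obtain ⟨b, m, S', T', hb, -, -, hcS', -, -, hTT, -, -, -⟩ := orbit hq hT hz hz1' (fun e => hT0 (e ▸ hz))
    have hcard' := congrArg Multiset.card hTT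
    rw [Multiset.card_add, Multiset.card_nsmul, hcS'] at hcard'
    have : 2 * b ≤ T.count z * (2 * b) := Nat.le_mul_of_pos_left _ (Multiset.count_pos.2 hz)
    omega

theorem prod_dvd {q : ℕ} (hq2 : 2 ∣ q) (hq1 : 1 ≤ q) {k : ℕ} (hk : k = q ^ 3 + 1 ∨ k = q ^ 3 - 1) {m : ℕ}
    (hm : m = q + 1 ∨ m = q - 1) : ∃ L, Spec q L ∧ k ∣ L ∧ m ∣ L := by
  have h1 : q + 1 ∣ q ^ 3 + 1 := by
    have := Odd.nat_add_dvd_pow_add_pow q 1 (show Odd 3 by decide)
    simpa using this
  have h2 : q - 1 ∣ q ^ 3 - 1 := by simpa using Nat.sub_dvd_pow_sub_pow q 1 3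
  rcases hk with rfl | rfl
  · refine ⟨_, Or.inr (Or.inr (Or.inl rfl)), dvd_mul_right _ _, ?_⟩
    rcases hm with rfl | rfl
    exacts [h1.trans (dvd_mul_right _ _), dvd_mul_left _ _]
  · refine ⟨_, Or.inr (Or.inr (Or.inr (Or.inl rfl))), dvd_mul_right _ _, ?_⟩
    rcases hm with rfl | rfl
    exacts [dvd_mul_left _ _, h2.trans (dvd_mul_right _ _)]

theorem closed_ne_one {R : Multiset K} (hR : Closed q R) :
    Closed q (R.filter (· ≠ 1)) ∧ R = Multiset.replicate (R.count 1) 1 + R.filter (· ≠ 1) := by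
  have e : R = Multiset.replicate (R.count 1) 1 + R.filter (· ≠ 1) := by
    rw [← Multiset.filter_eq']
    exact (Multiset.filter_add_not _ R).symm
  exact ⟨closed_sub (S := Multiset.replicate (R.count 1) 1) (e ▸ hR)
    ⟨by rw [Multiset.map_replicate, inv_one], by rw [Multiset.map_replicate, one_pow]⟩, e⟩

/-- An orbit of an element of a small multiset. -/
theorem orbit_small (hq : q = 2 ^ f) {R : Multiset K} (hR : Closed q R) (h0 : (0 : K) ∉ R) {x : K} (hx : x ∈ R)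
    (hx1 : x ≠ 1) : 2 * R.count x ≤ Multiset.card R ∧
      (Multiset.card R ≤ 3 * R.count x ∨ Multiset.card R ≤ 5 → x ^ (q ^ 4 - 1) = 1) := by
  have hq1 : 1 ≤ q := hq ▸ Nat.one_le_two_pow
  obtain ⟨a, k, S, T, ha, hxS, -, hcS, hk, hSk, hRT, -, -, -⟩ := orbit hq hR hx hx1 (fun e => h0 (e ▸ hx))
  have hc := congrArg Multiset.card hRT
  rw [Multiset.card_add, Multiset.card_nsmul, hcS] at hc
  have hμ := Multiset.count_pos.2 hx
  have h1 : R.count x * 2 ≤ R.count x * (2 * a) := Nat.mul_le_mul_left _ (by omega)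
  refine ⟨by omega, fun hsmall => ?_⟩
  have ha2 : a ≤ 2 := by
    by_contra hgt
    have : R.count x * 6 ≤ R.count x * (2 * a) := Nat.mul_le_mul_left _ (by omega)
    omega
  obtain ⟨h24, h24', hm2, hp2⟩ := sq_dvd_four hq1
  have pk : ∀ {i}, i ∣ q ^ 4 - 1 → x ^ i = 1 → x ^ (q ^ 4 - 1) = 1 := fun {i} ⟨c, hc⟩ hx => by
    rw [hc, pow_mul, hx, one_pow]
  have hxk := (hSk x hxS).1
  interval_cases a <;> (try rw [pow_one] at hk) <;> rcases hk with rfl | rfl
  exacts [pk (hp2.trans h24) hxk, pk (hm2.trans h24) hxk, pk h24' hxk, pk h24 hxk]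

/-- The case analysis on the eigenvalues. -/
theorem root_cases (hf : 1 ≤ f) (hq : q = 2 ^ f) {R : Multiset K} (hR : Closed q R) (h0 : (0 : K) ∉ R)
    (hcard : Multiset.card R = 8) :
    ∃ d k e : ℕ, Spec q d ∧ k * 2 ^ e ∣ d ∧ (∀ r ∈ R, r ^ k = 1) ∧ ∀ r, R.count r ≤ 2 ^ e := by
  have hq1 : 1 ≤ q := hq ▸ Nat.one_le_two_pow
  have hq2 : 2 ∣ q := hq ▸ dvd_pow_self 2 (by omega)
  obtain ⟨h24, h24', hm2, hp2⟩ := sq_dvd_four hq1
  have pk : ∀ {x : K} {i j : ℕ}, i ∣ j → x ^ i = 1 → x ^ j = 1 := fun {x i j} ⟨c, hc⟩ hx => by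
    rw [hc, pow_mul, hx, one_pow]
  by_cases hA : ∀ x ∈ R, x ^ (q ^ 2 - 1) = 1
  · by_cases hM : ∀ r, R.count r ≤ 4
    · exact ⟨4 * (q ^ 2 - 1), q ^ 2 - 1, 2,
        Or.inr (Or.inr (Or.inr (Or.inr (Or.inr (Or.inr (Or.inr (Or.inr (Or.inr (Or.inl rfl))))))))),
        by norm_num [mul_comm], hA, hM⟩
    push Not at hM
    obtain ⟨t, ht⟩ := hM
    have ht1 : t = 1 := by
      by_contra hne
      have := (orbit_small hq hR h0 (Multiset.count_pos.1 (by omega)) hne).1
      omega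
    subst ht1
    obtain ⟨hcl, he⟩ := closed_ne_one hR
    have hc := congrArg Multiset.card he
    rw [Multiset.card_add, Multiset.card_replicate, hcard] at hc
    obtain ⟨k, hk, hk'⟩ := card_two hq hcl (fun h => h0 (Multiset.mem_filter.1 h).1) (by omega)
    refine ⟨8 * k, k, 3, ?_, by rw [mul_comm]; norm_num, fun r hr => ?_, fun r => ?_⟩
    · rcases hk with rfl | rfl
      · exact Or.inr (Or.inr (Or.inr (Or.inr (Or.inr (Or.inr (Or.inr (Or.inr (Or.inr (Or.inr (Or.inl rfl))))))))))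
      · exact Or.inr (Or.inr (Or.inr (Or.inr (Or.inr (Or.inr (Or.inr (Or.inr (Or.inr (Or.inr (Or.inr rfl))))))))))
    · by_cases h1 : r = 1
      · rw [h1, one_pow]
      · exact hk' r (Multiset.mem_filter.2 ⟨hr, h1⟩)
    · exact (Multiset.count_le_card r R).trans (by rw [hcard]; norm_num)
  push Not at hA
  obtain ⟨x, hx, hxA⟩ := hA
  obtain ⟨a, k, S, T, ha, hxS, hnd, hcS, hk, hSk, hRT, hT, hxT, hcnt⟩ :=
    orbit hq hR hx (fun e => hxA (by rw [e, one_pow])) (fun e => h0 (e ▸ hx))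
  have hc := congrArg Multiset.card hRT
  rw [Multiset.card_add, Multiset.card_nsmul, hcS, hcard] at hc
  have hμ := Multiset.count_pos.2 hx
  have ha2 : 2 ≤ a := by
    by_contra hlt
    have hxk := (hSk x hxS).1
    have ha1 : a = 1 := by omega
    subst ha1
    rw [pow_one] at hk
    rcases hk with rfl | rfl
    exacts [hxA (pk hp2 hxk), hxA (pk hm2 hxk)]
  have hμ2 : R.count x ≤ 2 := by
    by_contra hgt
    have : 3 * 4 ≤ R.count x * (2 * a) := Nat.mul_le_mul (by omega) (by omega)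
    omega
  have hT0 : (0 : K) ∉ T := fun e => h0 (hRT ▸ Multiset.mem_add.2 (Or.inr e))
  have hRmem : ∀ r ∈ R, r ∈ S ∨ r ∈ T := fun r hr => by
    rw [hRT, Multiset.mem_add] at hr
    exact hr.imp_left Multiset.mem_of_mem_nsmul
  have hRcnt : ∀ r, (r ∈ S → R.count r = R.count x) ∧ (r ∉ S → R.count r = T.count r) := fun r => by
    refine ⟨hcnt r, fun h => ?_⟩
    conv_lhs => rw [hRT]
    rw [Multiset.count_add, Multiset.count_nsmul, Multiset.count_eq_zero_of_notMem h, mul_zero, zero_add]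
  rcases (show R.count x = 2 ∨ R.count x = 1 by omega) with h2 | h1
  · rw [h2] at hc
    have ha' : a = 2 := by omega
    subst ha'
    have hTe : T = 0 := Multiset.card_eq_zero.1 (by omega)
    refine ⟨4 * (q ^ 2 + 1), k, 1, Or.inr (Or.inr (Or.inr (Or.inr (Or.inr (Or.inr (Or.inr (Or.inr (Or.inl rfl)))))))),
      ?_, fun r hr => ?_, fun r => ?_⟩
    · rcases hk with rfl | rfl
      · exact ⟨2, by ring⟩
      · exact absurd ((hSk x hxS).1) hxA
    · rcases hRmem r hr with h | h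
      · exact (hSk r h).1
      · rw [hTe] at h; exact absurd h (Multiset.notMem_zero r)
    · by_cases hr : r ∈ S
      · rw [(hRcnt r).1 hr, h2, pow_one]
      · rw [(hRcnt r).2 hr, hTe, Multiset.count_zero]; exact Nat.zero_le _
  rw [h1, one_mul] at hc
  have hcnt' : ∀ B, 1 ≤ B → (∀ r, T.count r ≤ B) → ∀ r, R.count r ≤ B := fun B hB hTB r => by
    by_cases hr : r ∈ S
    · rw [(hRcnt r).1 hr, h1]; exact hB
    · rw [(hRcnt r).2 hr]; exact hTB r
  have hpow : ∀ L, k ∣ L → (∀ r ∈ T, r ^ L = 1) → ∀ r ∈ R, r ^ L = 1 := fun L hkL hTL r hr => by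
    rcases hRmem r hr with h | h
    exacts [pk hkL (hSk r h).1, hTL r h]
  rcases (show a = 4 ∨ a = 3 ∨ a = 2 by omega) with rfl | rfl | rfl
  · refine ⟨k, k, 0, ?_, by rw [pow_zero, mul_one], fun r hr => ?_, hcnt' _ le_rfl fun r => ?_⟩
    · rcases hk with rfl | rfl
      exacts [Or.inl rfl, Or.inr (Or.inl rfl)]
    · refine hpow k dvd_rfl (fun r hr => ?_) r hr
      rw [Multiset.card_eq_zero.1 (show Multiset.card T = 0 by omega)] at hr
      exact absurd hr (Multiset.notMem_zero r)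
    · exact (Multiset.count_le_card r T).trans (by omega)
  · by_cases hTnd : T.Nodup
    · obtain ⟨m, hm, hm'⟩ := card_two hq hT hT0 (by omega)
      obtain ⟨L, hL, hkL, hmL⟩ := prod_dvd hq2 hq1 hk hm
      exact ⟨L, L, 0, hL, by rw [pow_zero, mul_one], hpow L hkL fun r hr => pk hmL (hm' r hr),
        hcnt' _ le_rfl fun r => Multiset.nodup_iff_count_le_one.1 hTnd r⟩
    obtain ⟨t, ht⟩ : ∃ t, 2 ≤ T.count t := by
      by_contra h
      push Not at h
      exact hTnd (Multiset.nodup_iff_count_le_one.2 fun t => Nat.le_of_lt_succ (h t))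
    have ht1 : t = 1 := by
      by_contra hne
      have := (orbit_small hq hT hT0 (Multiset.count_pos.1 (by omega)) hne).1
      omega
    subst ht1
    refine ⟨2 * k, k, 1, ?_, by rw [mul_comm, pow_one], hpow k dvd_rfl fun r hr => ?_, hcnt' _ (by norm_num) fun r => ?_⟩
    · rcases hk with rfl | rfl
      exacts [Or.inr (Or.inr (Or.inr (Or.inr (Or.inl rfl)))), Or.inr (Or.inr (Or.inr (Or.inr (Or.inr (Or.inl rfl)))))]
    · rw [← (Multiset.count_eq_card.1 (show T.count 1 = Multiset.card T from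
        le_antisymm (Multiset.count_le_card 1 T) (by omega))) r hr, one_pow]
    · exact (Multiset.count_le_card r T).trans (by norm_num; omega)
  · have hk2 : k = q ^ 2 + 1 := by
      rcases hk with rfl | rfl
      exacts [rfl, absurd (hSk x hxS).1 hxA]
    subst hk2
    have hcT : Multiset.card T = 4 := by omega
    by_cases hTnd : T.Nodup
    · refine ⟨q ^ 4 - 1, q ^ 4 - 1, 0, Or.inr (Or.inl rfl), by rw [pow_zero, mul_one], hpow _ h24' fun r hr => ?_,
        hcnt' _ le_rfl fun r => Multiset.nodup_iff_count_le_one.1 hTnd r⟩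
      by_cases hr1 : r = 1
      · rw [hr1, one_pow]
      · exact (orbit_small hq hT hT0 hr hr1).2 (Or.inr (by omega))
    obtain ⟨t, ht⟩ : ∃ t, 2 ≤ T.count t := by
      by_contra h
      push Not at h
      exact hTnd (Multiset.nodup_iff_count_le_one.2 fun t => Nat.le_of_lt_succ (h t))
    obtain ⟨m, hm, hTm, hcase⟩ : ∃ m, (m = q + 1 ∨ m = q - 1) ∧ (∀ r ∈ T, r ^ m = 1) ∧
        ((∀ r, T.count r ≤ 2) ∨ ∀ r ∈ T, r = 1) := by
      by_cases ht1 : t = 1
      · subst ht1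
        obtain ⟨hcl, he⟩ := closed_ne_one hT
        have hce := congrArg Multiset.card he
        rw [Multiset.card_add, Multiset.card_replicate, hcT] at hce
        have hf0 : (0 : K) ∉ T.filter (· ≠ 1) := fun h => hT0 (Multiset.mem_filter.1 h).1
        obtain ⟨m, hm, hm'⟩ := card_two hq hcl hf0 (by omega)
        refine ⟨m, hm, fun r hr => ?_, ?_⟩
        · by_cases hr1 : r = 1
          · rw [hr1, one_pow]
          · exact hm' r (Multiset.mem_filter.2 ⟨hr, hr1⟩)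
        · by_cases h3 : T.count 1 ≤ 2
          · refine Or.inl fun r => ?_
            by_cases hr1 : r = 1
            · rw [hr1]; exact h3
            · rw [← Multiset.count_filter_of_pos (p := (· ≠ 1)) hr1]
              exact (Multiset.count_le_card r _).trans (by omega)
          · refine Or.inr fun r hr => ?_
            by_contra hr1
            have := (orbit_small hq hcl hf0 (Multiset.mem_filter.2 ⟨hr, hr1⟩) hr1).1
            have h2 : 0 < (T.filter (· ≠ 1)).count r := Multiset.count_pos.2 (Multiset.mem_filter.2 ⟨hr, hr1⟩)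
            omega
      · have htT := Multiset.count_pos.1 (show 0 < T.count t by omega)
        obtain ⟨b, m, S', T', hb, htS, hnd', hcS', hm, hSm, hTT, -, -, -⟩ := orbit hq hT htT ht1 (fun e => hT0 (e ▸ htT))
        have hc' := congrArg Multiset.card hTT
        rw [Multiset.card_add, Multiset.card_nsmul, hcS', hcT] at hc'
        have h2b : 2 * (2 * b) ≤ T.count t * (2 * b) := Nat.mul_le_mul_right _ ht
        have hb1 : b = 1 := by omega
        subst hb1
        rw [pow_one] at hm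
        have hTe : T' = 0 := Multiset.card_eq_zero.1 (by omega)
        rw [hTe, add_zero] at hTT
        have ht2 : T.count t = 2 := by omega
        refine ⟨m, hm, fun r hr => (hSm r (Multiset.mem_of_mem_nsmul (hTT ▸ hr))).1, Or.inl fun r => ?_⟩
        rw [hTT, Multiset.count_nsmul, ht2]
        have := Multiset.nodup_iff_count_le_one.1 hnd' r
        omega
    rcases hcase with h2 | hall
    · refine ⟨2 * ((q ^ 2 + 1) * m), (q ^ 2 + 1) * m, 1, ?_, by rw [pow_one, mul_comm], hpow _ (dvd_mul_right _ _)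
        (fun r hr => pk (dvd_mul_left _ _) (hTm r hr)), hcnt' _ (by norm_num) h2⟩
      rcases hm with rfl | rfl
      exacts [Or.inr (Or.inr (Or.inr (Or.inr (Or.inr (Or.inr (Or.inl rfl)))))),
        Or.inr (Or.inr (Or.inr (Or.inr (Or.inr (Or.inr (Or.inr (Or.inl rfl)))))))]
    · exact ⟨4 * (q ^ 2 + 1), q ^ 2 + 1, 2,
        Or.inr (Or.inr (Or.inr (Or.inr (Or.inr (Or.inr (Or.inr (Or.inr (Or.inl rfl)))))))), by norm_num [mul_comm],
        hpow _ dvd_rfl (fun r hr => by rw [hall r hr, one_pow]),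
        hcnt' _ (by norm_num) fun r => (Multiset.count_le_card r T).trans (by rw [hcT]; norm_num)⟩

end Cfsg.Lib.SpecSympEight
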