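import Cfsg.Agent.SpecSympEight.Roots

/-! Upper bound for the orders of eight-dimensional isometries in characteristic two. -/

set_option autoImplicit false
set_option linter.style.haveILetI false
set_option linter.unusedSectionVars false

open Matrix Polynomial

namespace Cfsg.Lib.SpecSympEight

variable {F : Type*} [Field F]

/-- The root `1` of the minimal polynomial is less multiple when there are two independent fixed vectors. -/
theorem aeval_div_root {V : Type*} [AddCommGroup V] [Module F V] [FiniteDimensional F V] (T : Module.End F V)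
    (h : 2 ≤ Module.finrank F (LinearMap.ker (T - 1))) (C' : F[X]) (hC : T.charpoly = (X - C 1) * C') :
    aeval T C' = 0 := by
  set m := T.charpoly.rootMultiplicity 1 with hm
  obtain ⟨g, hg, -⟩ := exists_eq_pow_rootMultiplicity_mul_and_not_dvd _ (LinearMap.charpoly_monic T).ne_zero 1
  rw [← hm] at hg
  set N := T - 1 with hN
  have hgen : Module.finrank F (T.maxGenEigenspace 1) = m := LinearMap.finrank_maxGenEigenspace_eq T 1
  have hle : ∀ j, Module.finrank F (LinearMap.ker (N ^ j)) ≤ m := fun j => by
    rw [← hgen]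
    refine Submodule.finrank_mono fun v hv => ?_
    rw [Module.End.mem_maxGenEigenspace]
    exact ⟨j, by simpa [hN] using hv⟩
  have hm1 : 2 ≤ m := by
    have := hle 1
    rw [pow_one] at this
    omega
  have hstrict : ∀ j, (∀ i < j, LinearMap.ker (N ^ (i + 1)) ≠ LinearMap.ker (N ^ (i + 2))) →
      j + 2 ≤ Module.finrank F (LinearMap.ker (N ^ (j + 1))) := by
    intro j
    induction j with
    | zero => intro _; rw [pow_one]; exact h
    | succ j ih =>
      intro hne
      have h1 := ih fun i hi => hne i (by omega)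
      have hsub : LinearMap.ker (N ^ (j + 1)) < LinearMap.ker (N ^ (j + 2)) := lt_of_le_of_ne
        (fun v hv => by
          rw [LinearMap.mem_ker] at hv ⊢
          rw [pow_succ' N (j + 1), Module.End.mul_apply, hv, map_zero]) (hne j (by omega))
      have := Submodule.finrank_lt_finrank_of_lt hsub
      show j + 3 ≤ Module.finrank F (LinearMap.ker (N ^ (j + 2)))
      omega
  obtain ⟨i, hi, hstab⟩ : ∃ i, i + 1 ≤ m - 1 ∧ LinearMap.ker (N ^ (i + 1)) = LinearMap.ker (N ^ (i + 2)) := by
    by_contra hcon
    push Not at hcon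
    have := hstrict (m - 1) fun i hi => hcon i (by omega)
    have := hle (m - 1 + 1)
    omega
  have hker : LinearMap.ker (N ^ m) ≤ LinearMap.ker (N ^ (m - 1)) := by
    have hs : ∀ k, LinearMap.ker (N ^ (i + 1 + k)) ≤ LinearMap.ker (N ^ (i + 1)) := by
      intro k
      induction k with
      | zero => exact le_rfl
      | succ k ih =>
        intro v hv
        rw [LinearMap.mem_ker, show i + 1 + (k + 1) = (i + 1 + k) + 1 by ring, pow_succ, Module.End.mul_apply,
          ← LinearMap.mem_ker] at hv
        have h2 := ih hv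
        rw [LinearMap.mem_ker, ← Module.End.mul_apply, ← pow_succ, ← LinearMap.mem_ker,
          show i + 1 + 1 = i + 2 from rfl, ← hstab] at h2
        exact h2
    intro v hv
    rw [show m = i + 1 + (m - (i + 1)) by omega] at hv
    have h2 := hs _ hv
    rw [LinearMap.mem_ker] at h2 ⊢
    rw [show m - 1 = (m - 1 - (i + 1)) + (i + 1) by omega, pow_add, Module.End.mul_apply, h2, map_zero]
  have hC' : C' = (X - C 1) ^ (m - 1) * g := mul_left_cancel₀ (X_sub_C_ne_zero (1 : F))
    (by rw [← hC, ← mul_assoc, ← pow_succ', Nat.sub_add_cancel (by omega)]; exact hg)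
  rw [hC', map_mul, map_pow, map_sub, aeval_X, aeval_C, map_one, ← hN]
  refine LinearMap.ext fun v => ?_
  rw [Module.End.mul_apply, LinearMap.zero_apply, ← LinearMap.mem_ker]
  refine hker ?_
  have hCH : aeval T T.charpoly = 0 := LinearMap.aeval_self_charpoly T
  rw [hg, map_mul, map_pow, map_sub, aeval_X, aeval_C, map_one, ← hN] at hCH
  rw [LinearMap.mem_ker, ← Module.End.mul_apply, hCH, LinearMap.zero_apply]

theorem charpoly_inverse_form {ι : Type*} [Fintype ι] [DecidableEq ι] (A G : Matrix ι ι F) (hG : IsUnit G.det)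
    (h : Aᵀ * G * A = G) : IsUnit A ∧ A⁻¹.charpoly = A.charpoly := by
  have hA : IsUnit A.det := by
    have e := congrArg Matrix.det h
    rw [Matrix.det_mul, Matrix.det_mul, Matrix.det_transpose] at e
    refine isUnit_iff_ne_zero.2 fun e0 => hG.ne_zero ?_
    rw [← e, e0, mul_zero]
  refine ⟨(Matrix.isUnit_iff_isUnit_det A).2 hA, ?_⟩
  obtain ⟨U, hU⟩ := (Matrix.isUnit_iff_isUnit_det G).2 hG
  have h1 : Aᵀ = (U : Matrix ι ι F) * A⁻¹ * (↑U⁻¹ : Matrix ι ι F) := by
    rw [hU]
    calc Aᵀ = Aᵀ * (U : Matrix ι ι F) * (↑U⁻¹ : Matrix ι ι F) := (Units.mul_inv_cancel_right _ U).symm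
      _ = Aᵀ * G * A * A⁻¹ * (↑U⁻¹ : Matrix ι ι F) := by rw [Matrix.mul_nonsing_inv_cancel_right _ _ hA, hU]
      _ = G * A⁻¹ * (↑U⁻¹ : Matrix ι ι F) := by rw [h]
  rw [← Matrix.charpoly_transpose A, h1, Matrix.coe_units_inv]
  exact (Matrix.charpoly_units_conj U A⁻¹).symm

variable [Fintype F] [CharP F 2]

/-- The bound on a matrix preserving a nondegenerate form. -/
theorem pow_eq_one {ι : Type*} [Fintype ι] [DecidableEq ι] (hι : Fintype.card ι = 8) (A G : Matrix ι ι F)
    (hG : IsUnit G.det) (h : Aᵀ * G * A = G) :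
    ∃ d, Spec (Fintype.card F) d ∧ A ^ d = 1 ∧
      (Module.finrank F (LinearMap.ker (Matrix.toLin' A - 1)) ≠ 1 → ∑ i ∈ Finset.range d, A ^ i = 0) := by
  classical
  let K := AlgebraicClosure F
  let e : F →+* K := algebraMap F K
  haveI : CharP K 2 := charP_of_injective_ringHom e.injective 2
  obtain ⟨hu, hchar⟩ := charpoly_inverse_form A G hG h
  have hdet := (Matrix.isUnit_iff_isUnit_det A).1 hu
  set P : K[X] := A.charpoly.map e with hP
  have hPm : P.Monic := (Matrix.charpoly_monic A).map e
  have hPs : P.Splits := IsAlgClosed.splits P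
  set R := P.roots with hR
  have hcard : Multiset.card R = 8 := by
    rw [hR, ← hPs.natDegree_eq_card_roots, hP, natDegree_map, Matrix.charpoly_natDegree_eq_dim, hι]
  have h0 : (0 : K) ∉ R := by
    rw [hR, mem_roots hPm.ne_zero, IsRoot.def, hP, ← map_zero e, eval_map, eval₂_at_apply, e.injective.eq_iff,
      Matrix.eval_charpoly, map_zero, zero_sub, Matrix.det_neg]
    simpa using hdet.ne_zero
  have hprod : P = (R.map fun r => X - Polynomial.C r).prod := hPs.eq_prod_roots_of_monic hPm
  have hinv : R.map (·⁻¹) = R := by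
    have h1 : P.reverse = (R.map fun r => (1 : K[X]) - Polynomial.C r * X).prod := by
      rw [hprod]
      clear_value R
      clear hcard h0 hR hprod
      induction R using Multiset.induction with
      | empty => simpa using reverse_C (1 : K)
      | cons a s ih =>
        rw [Multiset.map_cons, Multiset.prod_cons, reverse_mul_of_domain, ih, Multiset.map_cons, Multiset.prod_cons]
        congr 1
        rw [show (X - Polynomial.C a : K[X]) = X * 1 + Polynomial.C (-a) by simp [sub_eq_add_neg], reverse_add_C,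
          reverse_X_mul]
        simp [reverse, sub_eq_add_neg]
    have h2 : (R.map fun r => (1 : K[X]) - Polynomial.C r * X).prod =
        Polynomial.C ((R.map fun r => -r).prod) * ((R.map (·⁻¹)).map fun r => X - Polynomial.C r).prod := by
      rw [Multiset.map_map, map_multiset_prod, Multiset.map_map, ← Multiset.prod_map_mul]
      refine congrArg Multiset.prod (Multiset.map_congr rfl fun r hr => ?_)
      have hr0 : r ≠ 0 := fun e => h0 (e ▸ hr)
      simp only [Function.comp_apply]
      rw [mul_sub, ← C_mul, neg_mul, mul_inv_cancel₀ hr0, map_neg, map_neg, map_one]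
      ring
    have h3 : P = Polynomial.C (A.map e).det⁻¹ * P.reverse := by
      have hAB' : A.map e * A⁻¹.map e = 1 := by
        rw [← Matrix.map_mul, Matrix.mul_nonsing_inv _ hdet, Matrix.map_one _ e.map_zero e.map_one]
      have h := Matrix.charpoly_inv (A.map e) (IsUnit.of_mul_eq_one _ hAB')
      rw [Matrix.inv_eq_right_inv hAB', Matrix.charpoly_map, hchar, ← hP, ← Matrix.reverse_charpoly,
        Matrix.charpoly_map, ← hP, Ring.inverse_eq_inv', hι] at h
      norm_num at h
      exact h
    have h4 := h3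
    rw [h1, h2, ← mul_assoc, ← C_mul] at h4
    have hne : (A.map e).det⁻¹ * (R.map fun r => -r).prod ≠ 0 := by
      intro e'
      rw [e', map_zero, zero_mul] at h4
      exact hPm.ne_zero h4
    have h5 := congrArg Polynomial.roots h4
    rw [← hR, roots_C_mul _ hne, roots_multiset_prod_X_sub_C] at h5
    exact h5.symm
  obtain ⟨⟨f, hf⟩, -, hqf⟩ := FiniteField.card F 2
  change Fintype.card F = 2 ^ f at hqf
  have hfrob : R.map (fun x => x ^ Fintype.card F) = R := by
    have h1 : P.map (iterateFrobenius K 2 f) = P := by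
      rw [hP, Polynomial.map_map]
      congr 1
      ext x
      show (e x) ^ 2 ^ f = e x
      rw [← hqf, ← map_pow, FiniteField.pow_card]
    have h2 := map_roots_le_of_injective P (f := iterateFrobenius K 2 f) (iterateFrobenius_inj K 2 f)
    rw [h1, ← hR] at h2
    rw [hqf]
    exact Multiset.eq_of_le_of_card_le h2 (by rw [Multiset.card_map])
  obtain ⟨d, k, j, hd, hkd, hroots, hcnt⟩ := root_cases hf hqf ⟨hinv, hfrob⟩ h0 hcard
  obtain ⟨c, hc⟩ := hkd
  have hd0 : k * 2 ^ j ∣ d := ⟨c, hc⟩
  have hdvd : P ∣ X ^ d - 1 := by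
    refine (show P ∣ (X ^ k - 1) ^ 2 ^ j from ?_).trans ?_
    · rcases eq_or_ne (X ^ k - 1 : K[X]) 0 with hz | hz
      · rw [hz, zero_pow (pow_ne_zero _ two_ne_zero)]; exact dvd_zero _
      refine hPs.dvd_of_roots_le_roots hPm.ne_zero ?_
      rw [roots_pow, ← hR, Multiset.le_iff_count]
      intro r
      rw [Multiset.count_nsmul]
      rcases Nat.eq_zero_or_pos (R.count r) with h | h
      · omega
      · have hmem : r ∈ (X ^ k - 1 : K[X]).roots := by
          rw [mem_roots hz]
          simp [hroots r (Multiset.count_pos.1 h)]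
        calc R.count r ≤ 2 ^ j * 1 := by rw [mul_one]; exact hcnt r
          _ ≤ _ := Nat.mul_le_mul le_rfl (Multiset.count_pos.2 hmem)
    · rw [sub_pow_char_pow, one_pow, ← pow_mul, hc]
      have := sub_dvd_pow_sub_pow ((X : K[X]) ^ (k * 2 ^ j)) 1 c
      rwa [one_pow, ← pow_mul] at this
  have hdF : A.charpoly ∣ X ^ d - 1 := by
    rw [← Polynomial.map_dvd_map e e.injective (Matrix.charpoly_monic A), ← hP]
    simpa using hdvd
  obtain ⟨Q, hQ⟩ := hdF
  have hAd : A ^ d = 1 := by
    have := congrArg (aeval A) hQ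
    rwa [map_mul, Matrix.aeval_self_charpoly, zero_mul, map_sub, map_pow, aeval_X, map_one, sub_eq_zero] at this
  refine ⟨d, hd, hAd, fun hker => ?_⟩
  rcases Nat.eq_zero_or_pos (Module.finrank F (LinearMap.ker (Matrix.toLin' A - 1))) with h0' | hpos
  · have hinj : Function.Injective ⇑(Matrix.toLin' A - 1 : Module.End F (ι → F)) := LinearMap.ker_eq_bot.1 (Submodule.finrank_eq_zero.1 h0')
    refine Matrix.toLin'.injective (LinearMap.ext fun v => hinj ?_)
    rw [map_zero, LinearMap.zero_apply, map_zero]
    have e1 : (A - 1) * ∑ i ∈ Finset.range d, A ^ i = 0 := by rw [mul_geom_sum, hAd, sub_self]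
    have e2 := congrArg (fun M => Matrix.toLin' M v) e1
    simpa [Matrix.toLin'_mul, Matrix.toLin'_one, Module.End.one_eq_id] using e2
  · set T := Matrix.toLin' A with hT
    have hroot : A.charpoly.IsRoot 1 := by
      obtain ⟨v, hv⟩ := Module.finrank_pos_iff_exists_ne_zero.1 hpos
      rw [IsRoot.def, Matrix.eval_charpoly, ← Matrix.exists_mulVec_eq_zero_iff]
      refine ⟨v.1, fun e => hv (Subtype.ext e), ?_⟩
      have h1 : T v.1 - v.1 = 0 := LinearMap.mem_ker.1 v.2
      rw [sub_eq_zero, show T v.1 = A *ᵥ v.1 from Matrix.toLin'_apply A v.1] at h1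
      rw [map_one, Matrix.sub_mulVec, h1, Matrix.one_mulVec, sub_self]
    obtain ⟨C', hC'⟩ := dvd_iff_isRoot.2 hroot
    have hz : aeval T C' = 0 := aeval_div_root T (by omega) C' (by rw [hT, Matrix.charpoly_toLin', hC'])
    have hgeom : (∑ i ∈ Finset.range d, X ^ i : F[X]) = C' * Q := by
      refine mul_left_cancel₀ (X_sub_C_ne_zero (1 : F)) ?_
      rw [← mul_assoc, ← hC', ← hQ, map_one, mul_geom_sum]
    apply Matrix.toLin'.injective
    have := congrArg (aeval T) hgeom
    rw [map_mul, hz, zero_mul, map_sum] at this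
    simp only [map_pow, aeval_X] at this
    rw [map_zero, map_sum]
    simp only [Matrix.toLin'_pow]
    exact this

end Cfsg.Lib.SpecSympEight
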